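import Cfsg.Agent.SporadicB.ON45Word
import Cfsg.Agent.S1699
import Cfsg.Agent.H440.TwoGen.Basic
import Cfsg.Agent.FastGrp
import Cfsg.Agent.Prune
set_option linter.all false
open scoped Cfsg.Agent.FastGrp

/-!
# The O'Nan group is 2-generated (helper440)

`ON = ⟨a, …, g⟩`; `e` commutes with `a b` (of order three) and `⟨a b, d g c g⟩ = ⟨a, b, c, d, g⟩`; so
`ON = ⟨e (a b), d g c g⟩`. The words are checked in the 45-dimensional projective representation.
-/

set_option autoImplicit false
set_option maxRecDepth 100000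

namespace Cfsg.Agent.H440.TwoGen.ONan

open Cfsg.Spor Cfsg.Spor.ON Cfsg.Agent.SporadicB.ON45Word Cfsg.Agent.Lib.PackMat Cfsg.Agent.SporadicB.ON45Data
  Cfsg.Agent.SporadicB.ON45Rels

/-- word in the generators -/
noncomputable def wd (l : List Gen) : Cfsg.Spor.ON := (l.map on).prod

theorem wd_append (l m : List Gen) : wd (l ++ m) = wd l * wd m := by
  unfold wd; rw [List.map_append, List.prod_append]

theorem wd_flat {S : Subgroup Cfsg.Spor.ON} (ls : List (List Gen)) (h : ∀ l ∈ ls, wd l ∈ S) :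
    wd ls.flatten ∈ S := by
  induction ls with
  | nil => exact S.one_mem
  | cons l ls ih =>
    rw [List.flatten_cons, wd_append]
    exact S.mul_mem (h l (by simp)) (ih fun m hm => h m (by simp [hm]))

/-- `a b` -/
def s : List Gen := [Gen.a, Gen.b]
/-- `(a b)⁻¹` -/
def s' : List Gen := [Gen.b, Gen.a]
/-- `d g c g` -/
def p : List Gen := [Gen.d, Gen.g, Gen.c, Gen.g]
/-- `(d g c g)⁻¹` -/
def p' : List Gen := [Gen.g, Gen.g, Gen.g, Gen.c, Gen.g, Gen.g, Gen.g, Gen.d]

/-- `a = s p s p' s' p s' p' s p s p'` -/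
def la : List (List Gen) := [s, p, s, p', s', p, s', p', s, p, s, p']
/-- word for `c` -/
def lc : List (List Gen) := [p, s, p, p, s, p, p, s, p, p, s', p, p, s, p']
/-- word for `d` -/
def ld : List (List Gen) := [s, p, s', p, p, p, s', p, s, p', s', p]
/-- word for `g` -/
def lg : List (List Gen) := [s, p, p, s, p, s, p', s, p', s', p, s, p, p, s, p']

/-- the check: the word is represented by the scalar `c` -/
noncomputable def chk (l : List Gen) (c : ℕ) : Bool := checkScalar C45 (l.map fun x => gens (gi x)) c 0 45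

theorem eq_one_of_chk (hs : IsSimpleGroup Cfsg.Spor.ON) (l : List Gen) (c : ℕ) (hc : c < 7)
    (h : chk l c = true) : wd l = 1 :=
  (LW.word l).eq_one hs c hc h

theorem cs : chk (s ++ s') 1 = true := by decide +kernel
theorem cp : chk (p ++ p') 1 = true := by decide +kernel
theorem ca : chk ([Gen.a] ++ la.flatten) 1 = true := by decide +kernel
theorem cc : chk ([Gen.c] ++ lc.flatten) 1 = true := by decide +kernel
theorem cd : chk ([Gen.d] ++ ld.flatten) 1 = true := by decide +kernel
theorem cg : chk ([Gen.g, Gen.g, Gen.g] ++ lg.flatten) 2 = true := by decide +kernel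
theorem cg4 : chk ([Gen.g] ++ [Gen.g, Gen.g, Gen.g]) 1 = true := by decide +kernel
theorem cee : chk ([Gen.e] ++ [Gen.e]) 1 = true := by decide +kernel
theorem css : chk (s ++ s ++ s) 1 = true := by decide +kernel
theorem ces : chk ([Gen.e] ++ s ++ [Gen.e] ++ s') 1 = true := by decide +kernel
theorem cgf : chk ([Gen.g, Gen.g, Gen.a] ++ [Gen.f]) 1 = true := by decide +kernel
theorem mem_of_mul {S : Subgroup Cfsg.Spor.ON} {x y : Cfsg.Spor.ON} (h : x * y = 1) (hx : x ∈ S) : y ∈ S := by
  rw [← inv_eq_of_mul_eq_one_right h]; exact S.inv_mem hx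

theorem mem_of_mul' {S : Subgroup Cfsg.Spor.ON} {x y : Cfsg.Spor.ON} (h : x * y = 1) (hy : y ∈ S) : x ∈ S := by
  rw [eq_inv_of_mul_eq_one_left h]; exact S.inv_mem hy

theorem closure_eq : Subgroup.closure ({wd [Gen.e] * wd s, wd p} : Set Cfsg.Spor.ON) = ⊤ := by
  have hs : IsSimpleGroup Cfsg.Spor.ON := Cfsg.Agent.S1699.result.1
  have key : ∀ (l m : List Gen) (c : ℕ), c < 7 → chk (l ++ m) c = true → wd l * wd m = 1 := by
    intro l m c hc h
    rw [← wd_append]
    exact eq_one_of_chk hs _ c hc h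
  set S := Subgroup.closure ({wd [Gen.e] * wd s, wd p} : Set Cfsg.Spor.ON) with hS
  have h1 : wd [Gen.e] * wd s ∈ S := Subgroup.subset_closure (by simp)
  have hp : wd p ∈ S := Subgroup.subset_closure (by simp)
  have hp' : wd p' ∈ S := mem_of_mul (key p p' 1 (by decide) cp) hp
  have hss : wd s * wd s' = 1 := key s s' 1 (by decide) cs
  have hcomm : wd [Gen.e] * wd s = wd s * wd [Gen.e] := by
    have h2 : wd [Gen.e] * wd s * wd [Gen.e] * wd s' = 1 := by
      rw [← wd_append, ← wd_append, ← wd_append]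
      exact eq_one_of_chk hs _ 1 (by decide) ces
    have h3 : wd [Gen.e] * wd [Gen.e] = 1 := key _ _ 1 (by decide) cee
    have h4 : wd s' = (wd s)⁻¹ := (inv_eq_of_mul_eq_one_right hss).symm
    have h5 : (wd [Gen.e])⁻¹ = wd [Gen.e] := inv_eq_of_mul_eq_one_left h3
    rw [h4, mul_inv_eq_one] at h2
    -- `e s e = s`
    calc wd [Gen.e] * wd s = wd [Gen.e] * wd s * wd [Gen.e] * (wd [Gen.e])⁻¹ := by group
      _ = wd s * wd [Gen.e] := by rw [h2, h5]
  have he2 : wd [Gen.e] ^ 2 = 1 := by rw [pow_two]; exact key _ _ 1 (by decide) cee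
  have hs3 : wd s ^ 3 = 1 := by
    have h2 : wd (s ++ s ++ s) = 1 := eq_one_of_chk hs _ 1 (by decide) css
    rw [wd_append, wd_append] at h2
    rw [pow_succ, pow_two]; exact h2
  have he : wd [Gen.e] ∈ S := left_mem_of_pow S hcomm he2 hs3 (by decide) h1
  have hsS : wd s ∈ S := right_mem_of_pow S hcomm he2 hs3 (by decide) h1
  have hsS' : wd s' ∈ S := mem_of_mul hss hsS
  have hall : ∀ l ∈ [s, s', p, p'], wd l ∈ S := by
    intro l hl
    simp only [List.mem_cons, List.not_mem_nil, or_false] at hl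
    rcases hl with rfl | rfl | rfl | rfl
    · exact hsS
    · exact hsS'
    · exact hp
    · exact hp'
  have ha : wd [Gen.a] ∈ S :=
    mem_of_mul' (key _ _ 1 (by decide) ca) (wd_flat la fun l hl => hall l (by revert l; decide))
  have hc : wd [Gen.c] ∈ S :=
    mem_of_mul' (key _ _ 1 (by decide) cc) (wd_flat lc fun l hl => hall l (by revert l; decide))
  have hd : wd [Gen.d] ∈ S :=
    mem_of_mul' (key _ _ 1 (by decide) cd) (wd_flat ld fun l hl => hall l (by revert l; decide))
  have hggg : wd [Gen.g, Gen.g, Gen.g] ∈ S :=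
    mem_of_mul' (key _ _ 2 (by decide) cg) (wd_flat lg fun l hl => hall l (by revert l; decide))
  have hg : wd [Gen.g] ∈ S := mem_of_mul' (key _ _ 1 (by decide) cg4) hggg
  have hb : wd [Gen.b] ∈ S := by
    have h2 : wd s = wd [Gen.a] * wd [Gen.b] := wd_append [Gen.a] [Gen.b]
    have h3 : wd [Gen.b] = (wd [Gen.a])⁻¹ * wd s := by rw [h2]; group
    rw [h3]
    exact S.mul_mem (S.inv_mem ha) hsS
  have hf : wd [Gen.f] ∈ S := by
    have h2 : wd [Gen.g, Gen.g, Gen.a] = wd [Gen.g] * wd [Gen.g] * wd [Gen.a] := by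
      rw [← wd_append, ← wd_append]; rfl
    refine mem_of_mul (key [Gen.g, Gen.g, Gen.a] [Gen.f] 1 (by decide) cgf) ?_
    rw [h2]
    exact S.mul_mem (S.mul_mem hg hg) ha
  have hon : ∀ x : Gen, on x ∈ S := by
    intro x
    have h2 : wd [x] = on x := by unfold wd; rw [List.map_singleton, List.prod_singleton]
    rw [← h2]
    cases x
    · exact hg
    · exact ha
    · exact hb
    · exact hc
    · exact hd
    · exact he
    · exact hf
  rw [eq_top_iff, ← PresentedGroup.closure_range_of, Subgroup.closure_le]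
  rintro _ ⟨x, rfl⟩
  exact hon x

/-- **The O'Nan group is generated by two elements.** -/
theorem twoGen_on {G : Type*} [Group G] (h : Cfsg.Spor.IsoON G) : TwoGen G :=
  TwoGen.of_equiv' h ⟨_, _, closure_eq⟩

end Cfsg.Agent.H440.TwoGen.ONan
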