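import Cfsg.Agent.RuD.IdxNetW_m3
import Cfsg.Agent.H440.TwoGen.Basic
import Cfsg.Agent.Prune
set_option linter.all false
prune_inst 0x7f00000000000000000000000000000000000000000000000000000000000000000000000000000000000000000000000000000000000000000000000000000000000000000000000000000000000000003fffffffffffffffffffffffffffbeffbdffffffff
open scoped Cfsg.Agent.FastGrp

/-!
# The Rudvalis group is 2-generated (helper440)

In the automorphism group `RuOrder.H` of the Rudvalis graph (4060 points), with the letters `T, S, W, F, D, Y` of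
`RuD.Letters`: `H = ⟨F Y, T⟩`. The words are evaluated at the four base points.
-/

set_option autoImplicit false
set_option maxRecDepth 100000

namespace Cfsg.Agent.H440.TwoGen.Rud

open Cfsg.Agent.SporadicB Cfsg.Agent.RuD.Letters Cfsg.Agent.RuD.Model Cfsg.Agent.SporRec.TCUpperCert

/-- `p = f y` -/
def p : List ℕ := [3, 5]
/-- `p⁻¹ = y f⁻¹` -/
def p' : List ℕ := [5, 7]
/-- `q = t` -/
def q : List ℕ := [0]

/-- word for `s` -/
def ls : List (List ℕ) := [p, q, p, q, p, p, p, p, q, p, p, p, q, p', q, p, p, p, p, q, p', q, p', p', q, p', q, p, q, p, p, p, q, p', q, p']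
/-- word for `w` -/
def lw : List (List ℕ) := [p, q, p', q, p', q, p, q, p, q, p', q, p', q, p, q, p, q, p', q, p', q, p, p]
/-- word for `f` -/
def lf : List (List ℕ) := [q, p, q, p', q, p]
/-- word for `d` -/
def ld : List (List ℕ) := [p, p, p, p, q, p', p', p', q, p, q, p', p', q, p, p, p, q, p', q, p, p, p, q, p', p', q, p, q, p', p', p', q, p', p', p']
/-- word for `y` -/
def ly : List (List ℕ) := [q, p', q, p, q]

theorem chk_all : chkRel [p ++ p', [0, 0], ls.flatten ++ [6], lw.flatten ++ [2], lf.flatten ++ [7],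
    ld.flatten ++ [8], ly.flatten ++ [5]] = true := by decide +kernel

theorem wprod_flat {N : Subgroup RuOrder.H} (l : List (List ℕ)) (h : ∀ w ∈ l, wprod ml w ∈ N) :
    wprod ml l.flatten ∈ N := by
  induction l with
  | nil => exact N.one_mem
  | cons w l ih =>
    rw [List.flatten_cons, wprod_append]
    exact N.mul_mem (h w (by simp)) (ih fun m hm => h m (by simp [hm]))

theorem closure_eq : Subgroup.closure ({wprod ml p, wprod ml q} : Set RuOrder.H) = ⊤ := by
  set N := Subgroup.closure ({wprod ml p, wprod ml q} : Set RuOrder.H) with hN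
  have hr := rel_of_chk chk_all
  have hp : wprod ml p ∈ N := Subgroup.subset_closure (by simp)
  have hq : wprod ml q ∈ N := Subgroup.subset_closure (by simp)
  have hp' : wprod ml p' ∈ N := by
    have h1 := hr (p ++ p') (by simp)
    rw [wprod_append] at h1
    rw [← inv_eq_of_mul_eq_one_right h1]
    exact N.inv_mem hp
  have hall : ∀ w ∈ [p, p', q], wprod ml w ∈ N := by
    intro w hw
    simp only [List.mem_cons, List.not_mem_nil, or_false] at hw
    rcases hw with rfl | rfl | rfl
    · exact hp
    · exact hp'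
    · exact hq
  have key : ∀ (l : List (List ℕ)) (k : ℕ), (∀ w ∈ l, w ∈ [p, p', q]) → wprod ml (l.flatten ++ [k]) = 1 →
      (wprod ml [k])⁻¹ ∈ N := by
    intro l k hl h1
    rw [wprod_append] at h1
    rw [← eq_inv_of_mul_eq_one_left h1]
    exact wprod_flat l fun w hw => hall w (hl w hw)
  have h1 : ∀ (k : ℕ), wprod ml [k] = lv ml k := by
    intro k
    rw [wprod_cons, wprod_nil, mul_one]
  have hT : T ∈ N := by
    have : wprod ml q = T := by
      rw [show q = [0] from rfl, h1]; rfl
    rw [← this]; exact hq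
  have hS : S ∈ N := by
    have h2 := key ls 6 (by decide) (hr _ (by simp))
    rw [h1] at h2
    have h3 : lv ml 6 = S⁻¹ := rfl
    rw [h3, inv_inv] at h2
    exact h2
  have hW : W ∈ N := by
    have h2 := key lw 2 (by decide) (hr _ (by simp))
    rw [h1] at h2
    exact N.inv_mem_iff.1 h2
  have hF : F ∈ N := by
    have h2 := key lf 7 (by decide) (hr _ (by simp))
    rw [h1] at h2
    have h3 : lv ml 7 = F⁻¹ := rfl
    rw [h3, inv_inv] at h2
    exact h2
  have hD : D ∈ N := by
    have h2 := key ld 8 (by decide) (hr _ (by simp))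
    rw [h1] at h2
    have h3 : lv ml 8 = D⁻¹ := rfl
    rw [h3, inv_inv] at h2
    exact h2
  have hY : Y ∈ N := by
    have h2 := key ly 5 (by decide) (hr _ (by simp))
    rw [h1] at h2
    exact N.inv_mem_iff.1 h2
  rw [eq_top_iff, ← closure_model, Subgroup.closure_le]
  intro x hx
  simp only [Set.mem_insert_iff, Set.mem_singleton_iff] at hx
  rcases hx with rfl | rfl | rfl | rfl | rfl | rfl
  · exact hT
  · exact hS
  · exact hW
  · exact hF
  · exact hD
  · exact hY

/-- **The Rudvalis group is generated by two elements.** -/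
theorem twoGen_ru {G : Type*} [Group G] (h : Cfsg.Spor.IsoRu G) : TwoGen G :=
  TwoGen.of_equiv' h (TwoGen.of_equiv Cfsg.Agent.RuLat.Main.equiv.symm ⟨_, _, closure_eq⟩)

end Cfsg.Agent.H440.TwoGen.Rud
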