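import Cfsg.Agent.J4.Pres
import Cfsg.Agent.H440.TwoGen.Basic
import Cfsg.Agent.Ly.Index
import Cfsg.Agent.H440.TwoGen.Cox
import Cfsg.Prelude.Def_Spor_Fi24
import Cfsg.Agent.J3.Simple
import Cfsg.Prelude.Def_Spor_HN
import Cfsg.Prelude.Def_Spor_He
import Cfsg.Prelude.Def_Spor_Fi22
import Cfsg.Prelude.Def_Spor_Fi23
import Cfsg.Prelude.Def_Spor_B
import Cfsg.Agent.Bimonster.Graph
import Cfsg.Agent.H850.MonSub
import Cfsg.Agent.Co2Type.Co2Gen
import Cfsg.Agent.H136.Gen2.Cox
import Cfsg.Prelude.Def_Spor_J1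
import Cfsg.Agent.H994.TwoGen.Suz
import Cfsg.Agent.H994.TwoGen.Words
import Cfsg.Agent.J2.HundredGens
import Cfsg.Agent.S1619
import Cfsg.Agent.McLType.Model
import Cfsg.Agent.H440.TwoGen.ONan
import Cfsg.Agent.H440.TwoGen.Rud
import Cfsg.Agent.H136.Gen2.Co1
import Cfsg.Agent.H994.TwoGen.M23_m3
import Cfsg.Agent.H136.Gen2.Th
import Cfsg.Agent.H994.TwoGen.M11
import Cfsg.Agent.H994.TwoGen.M12
import Cfsg.Agent.H994.TwoGen.M22
import Cfsg.Prelude.Def_Classification2
import Cfsg.Agent.McLType.BaseFast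
import Cfsg.Agent.Mrg.Omega.TitsIso.Model
import Cfsg.Agent.FastGrp
import Cfsg.Agent.Prune
set_option linter.all false

section
prune_inst 0x7ffebdfbeff88ddfffff7e7ffeffdffffcbdfffffffffffbfffd77ffafdf7f6fdfe5fbafffec58ffbff6e29e70fa7b13fffffeffef6ffc7ffffdfff45fffffdfedffbdad71ffbcbe1ffe6ffffbf07fae7f3fffffffffffffffffffffffffffffffffffffffff

-- part: H440/TwoGen/JFour_mg
section
prune_inst 0x1420010067000000001800100000003420000000000000000880050200090200200500012a600400101208500004000000100000001000002000080000000120002000000000000001000000b005180c00000000000000000000000000000000000000000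
set_option linter.all false
open scoped Cfsg.Agent.FastGrp

-- part: H440/TwoGen/JFour
section
/-!
# `J4` is 2-generated (helper440)

`J4 = ⟨x, y, t⟩`, `⟨x, y⟩ ≅ M24`; `t` commutes with the element `w = x y x y (x y⁻¹)² (x y)³` of order `21`
of `M24`, and `M24 = ⟨w, y⟩`; so `J4 = ⟨t w, y⟩`.
-/

set_option autoImplicit false

open Cfsg

namespace Cfsg.Agent.H440.TwoGen.JFour

open Cfsg.Agent.J4.M24Hom Cfsg.Agent.J4.Pres Cfsg.Agent.J4.Rep112

private def jfW : Equiv.Perm GolayPt where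
  toFun := fn [7, 15, 16, 11, 3, 6, 14, 4, 5, 21, 1, 2, 22, 17, 12, 10, 9, 20, 8, 23, 0, 18, 19, 13]
  invFun := fn [20, 10, 11, 4, 7, 8, 5, 0, 18, 16, 15, 3, 14, 23, 6, 1, 2, 13, 21, 22, 17, 9, 12, 19]
  left_inv := by decide +kernel
  right_inv := by decide +kernel

private def jfW3 : Equiv.Perm GolayPt where
  toFun := fn [3, 1, 21, 16, 2, 12, 22, 11, 14, 8, 10, 9, 23, 0, 19, 15, 18, 7, 6, 17, 4, 5, 13, 20]
  invFun := fn [13, 1, 4, 0, 20, 21, 18, 17, 9, 11, 10, 7, 5, 22, 8, 15, 3, 19, 16, 14, 23, 2, 6, 12]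
  left_inv := by decide +kernel
  right_inv := by decide +kernel

private theorem jfW_eq : X * (Y * X * Y * ((X * Y⁻¹) * (X * Y⁻¹)) * ((X * Y) * (X * Y) * (X * Y))) = jfW ∧
    jfW * jfW * jfW = jfW3 ∧ jfW3 * jfW3 * jfW3 * jfW3 * jfW3 * jfW3 * jfW3 = 1 ∧
    X = Y * jfW * (Y * jfW) * (Y * jfW) * (Y⁻¹ * jfW⁻¹ * Y⁻¹ * jfW * Y⁻¹ * jfW⁻¹ * Y * jfW * Y * jfW⁻¹ * jfW⁻¹) :=
  ⟨perm_ext (by decide +kernel), perm_ext (by decide +kernel), perm_ext (by decide +kernel),
    perm_ext (by decide +kernel)⟩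

private theorem jfW_eq' : X * (Y * X * Y * (X * Y⁻¹) ^ 2 * (X * Y) ^ 3) = jfW := by
  rw [pow_two, pow_three']; exact jfW_eq.1

theorem X_word : X = (Y * (X * (Y * X * Y * (X * Y⁻¹) ^ 2 * (X * Y) ^ 3))) ^ 3 *
    (Y⁻¹ * (X * (Y * X * Y * (X * Y⁻¹) ^ 2 * (X * Y) ^ 3))⁻¹ * Y⁻¹ *
      (X * (Y * X * Y * (X * Y⁻¹) ^ 2 * (X * Y) ^ 3)) * Y⁻¹ *
      (X * (Y * X * Y * (X * Y⁻¹) ^ 2 * (X * Y) ^ 3))⁻¹ * Y *
      (X * (Y * X * Y * (X * Y⁻¹) ^ 2 * (X * Y) ^ 3)) * Y *
      (X * (Y * X * Y * (X * Y⁻¹) ^ 2 * (X * Y) ^ 3))⁻¹ *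
      (X * (Y * X * Y * (X * Y⁻¹) ^ 2 * (X * Y) ^ 3))⁻¹) := by
  have h := jfW_eq.2.2.2
  rw [← pow_three', ← jfW_eq'] at h
  exact h

theorem W_pow : (X * (Y * X * Y * (X * Y⁻¹) ^ 2 * (X * Y) ^ 3)) ^ 21 = 1 := by
  rw [jfW_eq', show (21 : ℕ) = 3 * 7 from rfl, pow_mul, pow_three', jfW_eq.2.1]
  refine Eq.trans ?_ jfW_eq.2.2.1
  rw [show (7 : ℕ) = 1 + 1 + 1 + 1 + 1 + 1 + 1 from rfl, pow_succ, pow_succ, pow_succ, pow_succ, pow_succ, pow_succ, pow_one]

/-- the element `w` of `J4` -/
noncomputable def w : Cfsg.Spor.J4 := x * (y * x * y * (x * y⁻¹) ^ 2 * (x * y) ^ 3)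

theorem w_pow : w ^ 21 = 1 := by
  have h1 : (XM * (YM * XM * YM * (XM * YM⁻¹) ^ 2 * (XM * YM) ^ 3)) ^ 21 = 1 :=
    Subtype.ext W_pow
  have h2 := congrArg phi h1
  simp only [map_mul, map_pow, map_inv, map_one, phi_X, phi_Y] at h2
  exact h2

theorem x_word : x = (y * w) ^ 3 * (y⁻¹ * w⁻¹ * y⁻¹ * w * y⁻¹ * w⁻¹ * y * w * y * w⁻¹ * w⁻¹) := by
  have h1 : XM = (YM * (XM * (YM * XM * YM * (XM * YM⁻¹) ^ 2 * (XM * YM) ^ 3))) ^ 3 *
    (YM⁻¹ * (XM * (YM * XM * YM * (XM * YM⁻¹) ^ 2 * (XM * YM) ^ 3))⁻¹ * YM⁻¹ *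
      (XM * (YM * XM * YM * (XM * YM⁻¹) ^ 2 * (XM * YM) ^ 3)) * YM⁻¹ *
      (XM * (YM * XM * YM * (XM * YM⁻¹) ^ 2 * (XM * YM) ^ 3))⁻¹ * YM *
      (XM * (YM * XM * YM * (XM * YM⁻¹) ^ 2 * (XM * YM) ^ 3)) * YM *
      (XM * (YM * XM * YM * (XM * YM⁻¹) ^ 2 * (XM * YM) ^ 3))⁻¹ *
      (XM * (YM * XM * YM * (XM * YM⁻¹) ^ 2 * (XM * YM) ^ 3))⁻¹) := Subtype.ext X_word
  have h2 := congrArg phi h1
  simp only [map_mul, map_pow, map_inv, phi_X, phi_Y] at h2
  exact h2

theorem t_x : t * x = x * t := by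
  have h := all_rels.2.2.2.2.2.2.2.2.2.1
  have h1 : t * x = x * t * (t⁻¹ * x⁻¹ * t * x) := by group
  rw [h1, h, mul_one]

theorem t_z : t * (y * x * y * (x * y⁻¹) ^ 2 * (x * y) ^ 3) =
    (y * x * y * (x * y⁻¹) ^ 2 * (x * y) ^ 3) * t := by
  have h := all_rels.2.2.2.2.2.2.2.2.1
  have h1 : ∀ a b : Cfsg.Spor.J4, a⁻¹ * b⁻¹ * a * b = 1 → a * b = b * a := by
    intro a b hab
    have h2 : a * b = b * a * (a⁻¹ * b⁻¹ * a * b) := by group
    rw [h2, hab, mul_one]
  exact h1 _ _ h

theorem t_w : t * w = w * t := by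
  unfold w
  rw [← mul_assoc, t_x, mul_assoc, t_z]
  simp only [mul_assoc]

theorem t_pow : t ^ 2 = 1 := all_rels.2.2.2.2.2.2.2.1

theorem closure_eq : Subgroup.closure ({t * w, y} : Set Cfsg.Spor.J4) = ⊤ := by
  set S := Subgroup.closure ({t * w, y} : Set Cfsg.Spor.J4) with hS
  have h1 : t * w ∈ S := Subgroup.subset_closure (by simp)
  have hy : y ∈ S := Subgroup.subset_closure (by simp)
  have ht : t ∈ S := left_mem_of_pow S t_w t_pow w_pow (by decide) h1
  have hw : w ∈ S := right_mem_of_pow S t_w t_pow w_pow (by decide) h1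
  have hx : x ∈ S := by
    rw [x_word]
    have hwi := S.inv_mem hw
    have hyi := S.inv_mem hy
    exact S.mul_mem (S.pow_mem (S.mul_mem hy hw) 3)
      (S.mul_mem (S.mul_mem (S.mul_mem (S.mul_mem (S.mul_mem (S.mul_mem (S.mul_mem (S.mul_mem
        (S.mul_mem (S.mul_mem hyi hwi) hyi) hw) hyi) hwi) hy) hw) hy) hwi) hwi)
  rw [eq_top_iff, ← closure_eq_top, Subgroup.closure_le]
  rintro s (rfl | rfl | rfl)
  · exact hx
  · exact hy
  · exact ht

/-- **`J4` is generated by two elements.** -/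
theorem twoGen_j4 {G : Type*} [Group G] (h : Cfsg.Spor.IsoJ4 G) : TwoGen G :=
  TwoGen.of_equiv' h ⟨_, _, closure_eq⟩

end Cfsg.Agent.H440.TwoGen.JFour
end

-- part: H440/TwoGen/Lyons
section
/-!
# The Lyons group is 2-generated (helper440)

`Ly = ⟨a, b, c, d, z⟩`; `z` (of order dividing `8`) commutes with `h = a⁻¹ b a b⁻¹` (of order three) and
`⟨h, d c⟩ = ⟨a, b, c, d⟩ ≅ G₂(5)`; so `Ly = ⟨z h, d c⟩`. The words are checked in `GL₇(5)`.
-/

set_option autoImplicit false

namespace Cfsg.Agent.H440.TwoGen.Lyons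

open Cfsg.Agent.Ly.Mat7 Cfsg.Agent.Ly.Upper Cfsg.Agent.Ly.Index Cfsg.Agent.Ly.Pres Cfsg.Agent.Ly.WalkCtx

/-- word in `a, b, c, d` -/
noncomputable def wd (l : List ℕ) : Cfsg.Spor.Ly := ev (X4 gens) l

theorem wd_append (l m : List ℕ) : wd (l ++ m) = wd l * wd m := ev_append _ _ _

theorem wd_flat {S : Subgroup Cfsg.Spor.Ly} (ls : List (List ℕ)) (h : ∀ l ∈ ls, wd l ∈ S) :
    wd ls.flatten ∈ S := by
  induction ls with
  | nil => exact S.one_mem
  | cons l ls ih =>
    rw [List.flatten_cons, wd_append]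
    exact S.mul_mem (h l (by simp)) (ih fun m hm => h m (by simp [hm]))

theorem wd_eq {v w : List ℕ} (h : eqW v w = true) : wd v = wd w := data.wp v w h

/-- `h = a⁻¹ b a b⁻¹` -/
def h : List ℕ := [4, 1, 0, 5]
/-- `h⁻¹` -/
def h' : List ℕ := [1, 4, 5, 0]
/-- `p = d c` -/
def p : List ℕ := [3, 2]
/-- `p⁻¹` -/
def p' : List ℕ := [6, 7]

/-- word for `a` -/
def la : List (List ℕ) := [p', p', h, p, p, p, h', p, p, p, h, p', p', h, p, h, p', h', p, p, p, h']
/-- word for `b` -/
def lb : List (List ℕ) := [h', p', p', p', h, p', h, p, h', p', h', p', p', h', p', p', h, p', h', p', p', h']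
/-- word for `c` -/
def lc : List (List ℕ) := [p', h, p', p', p', p', h', p', h', p, h', p, h', p', p', h, p, h', p', p', h']
/-- word for `d` -/
def ld : List (List ℕ) := [p, h, p, p, h, p', h', p, p, h, p', h, p', h, p, h, p, p, p, p, h', p]

theorem eh : eqW (h ++ h') [] = true := by decide +kernel
theorem ep : eqW (p ++ p') [] = true := by decide +kernel
theorem eh3 : eqW (h ++ h ++ h) [] = true := by decide +kernel
theorem ea : eqW [0] la.flatten = true := by decide +kernel
theorem eb : eqW [1] lb.flatten = true := by decide +kernel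
theorem ec : eqW [2] lc.flatten = true := by decide +kernel
theorem ed : eqW [3] ld.flatten = true := by decide +kernel
theorem ez : eqW [0, 0, 0, 1, 4, 5, 4, 4] h = true := by decide +kernel
theorem ea8 : eqW [0, 0, 0, 0, 0, 0, 0, 0] [] = true := by decide +kernel

theorem mem_of_mul {S : Subgroup Cfsg.Spor.Ly} {x y : Cfsg.Spor.Ly} (h : x * y = 1) (hx : x ∈ S) : y ∈ S := by
  rw [← inv_eq_of_mul_eq_one_right h]; exact S.inv_mem hx

theorem z_sq : gens 4 * gens 4 = gens 0 * gens 0 := by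
  have h1 := rel_hold rel81 (by simp [relWords])
  rw [FreeGroup.lift_mk] at h1
  simp only [rel81, List.map_cons, List.map_nil, List.prod_cons, List.prod_nil, cond_true, cond_false,
    mul_one] at h1
  calc gens 4 * gens 4 = (gens 4 * (gens 4 * ((gens 0)⁻¹ * (gens 0)⁻¹))) * (gens 0 * gens 0) := by group
    _ = gens 0 * gens 0 := by rw [h1, one_mul]

theorem z_pow : (gens 4) ^ 8 = (1 : Cfsg.Spor.Ly) := by
  have h1 : wd [0, 0, 0, 0, 0, 0, 0, 0] = wd [] := wd_eq ea8
  have h2 : wd [0, 0, 0, 0, 0, 0, 0, 0] = (gens 0 * gens 0) ^ 4 := by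
    have h3 : wd [0, 0, 0, 0, 0, 0, 0, 0] = gens 0 * (gens 0 * (gens 0 * (gens 0 * (gens 0 * (gens 0 *
      (gens 0 * (gens 0 * 1))))))) := rfl
    rw [h3]; simp only [pow_succ, pow_zero, one_mul, mul_one, mul_assoc]
  calc (gens 4) ^ 8 = (gens 4 * gens 4) ^ 4 := by simp only [pow_succ, pow_zero, one_mul, mul_assoc]
    _ = 1 := by rw [z_sq, ← h2, h1]; rfl

theorem z_h : gens 4 * wd h = wd h * gens 4 := by
  have h1 := rel_hold rel78 (by simp [relWords])
  have h2 := rel_hold rel79 (by simp [relWords])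
  rw [FreeGroup.lift_mk] at h1 h2
  simp only [rel78, rel79, List.map_cons, List.map_nil, List.prod_cons, List.prod_nil, cond_true, cond_false,
    mul_one] at h1 h2
  have h3 : (gens 4)⁻¹ * gens 0 * gens 4 = (gens 0 * gens 0 * gens 0)⁻¹ := by
    apply eq_inv_of_mul_eq_one_left
    rw [← h1]; group
  have h4 : (gens 4)⁻¹ * (gens 1 * gens 0 * (gens 1)⁻¹) * gens 4 =
      (gens 0 * gens 0 * gens 1 * gens 0 * (gens 1)⁻¹)⁻¹ := by
    apply eq_inv_of_mul_eq_one_left
    rw [← h2]; group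
  have h5 : wd h = (gens 0)⁻¹ * (gens 1 * (gens 0 * ((gens 1)⁻¹ * 1))) := rfl
  have h6 : wd [0, 0, 0, 1, 4, 5, 4, 4] = gens 0 * (gens 0 * (gens 0 * (gens 1 * ((gens 0)⁻¹ * ((gens 1)⁻¹ *
    ((gens 0)⁻¹ * ((gens 0)⁻¹ * 1))))))) := rfl
  have h7 : (gens 4)⁻¹ * wd h * gens 4 = wd h := by
    calc (gens 4)⁻¹ * wd h * gens 4
        = ((gens 4)⁻¹ * gens 0 * gens 4)⁻¹ * ((gens 4)⁻¹ * (gens 1 * gens 0 * (gens 1)⁻¹) * gens 4) := by
          rw [h5]; group
      _ = wd [0, 0, 0, 1, 4, 5, 4, 4] := by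
          rw [h3, h4, h6]; simp only [mul_inv_rev, inv_inv, mul_one, mul_assoc]
      _ = wd h := wd_eq ez
  calc gens 4 * wd h = gens 4 * ((gens 4)⁻¹ * wd h * gens 4) := by rw [h7]
    _ = wd h * gens 4 := by group

theorem closure_eq : Subgroup.closure ({gens 4 * wd h, wd p} : Set Cfsg.Spor.Ly) = ⊤ := by
  set S := Subgroup.closure ({gens 4 * wd h, wd p} : Set Cfsg.Spor.Ly) with hS
  have h1 : gens 4 * wd h ∈ S := Subgroup.subset_closure (by simp)
  have hp : wd p ∈ S := Subgroup.subset_closure (by simp)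
  have hp' : wd p' ∈ S := mem_of_mul (by rw [← wd_append]; exact wd_eq ep) hp
  have h3 : wd h ^ 3 = 1 := by
    have h2 : wd (h ++ h ++ h) = 1 := wd_eq eh3
    rw [wd_append, wd_append] at h2
    rw [pow_succ, pow_two]; exact h2
  have hz : gens 4 ∈ S := left_mem_of_pow S z_h z_pow h3 (by decide) h1
  have hh : wd h ∈ S := right_mem_of_pow S z_h z_pow h3 (by decide) h1
  have hh' : wd h' ∈ S := mem_of_mul (by rw [← wd_append]; exact wd_eq eh) hh
  have hall : ∀ l ∈ [h, h', p, p'], wd l ∈ S := by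
    intro l hl
    simp only [List.mem_cons, List.not_mem_nil, or_false] at hl
    rcases hl with rfl | rfl | rfl | rfl
    · exact hh
    · exact hh'
    · exact hp
    · exact hp'
  have ha : wd [0] ∈ S := by
    rw [wd_eq ea]; exact wd_flat la fun l hl => hall l (by revert l; decide)
  have hb : wd [1] ∈ S := by
    rw [wd_eq eb]; exact wd_flat lb fun l hl => hall l (by revert l; decide)
  have hc : wd [2] ∈ S := by
    rw [wd_eq ec]; exact wd_flat lc fun l hl => hall l (by revert l; decide)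
  have hd : wd [3] ∈ S := by
    rw [wd_eq ed]; exact wd_flat ld fun l hl => hall l (by revert l; decide)
  have e0 : wd [0] = gens 0 := mul_one _
  have e1 : wd [1] = gens 1 := mul_one _
  have e2 : wd [2] = gens 2 := mul_one _
  have e3 : wd [3] = gens 3 := mul_one _
  rw [e0] at ha
  rw [e1] at hb
  rw [e2] at hc
  rw [e3] at hd
  rw [eq_top_iff, ← closure_gens, Subgroup.closure_le]
  rintro _ ⟨i, rfl⟩
  fin_cases i
  · exact ha
  · exact hb
  · exact hc
  · exact hd
  · exact hz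

/-- **The Lyons group is generated by two elements.** -/
theorem twoGen_ly {G : Type*} [Group G] (h : Cfsg.Spor.IsoLy G) : TwoGen G :=
  TwoGen.of_equiv' h ⟨_, _, closure_eq⟩

end Cfsg.Agent.H440.TwoGen.Lyons
end

private theorem dce_ec111e03ca3c : _root_.True := by
  try have : _root_.True := by simp only [_root_.Cfsg.Agent.Ly.Pres.rel79.eq_1]
  try have : _root_.True := by simp only [_root_.Cfsg.Agent.Ly.Pres.rel78.eq_1]
  exact _root_.True.intro
end

-- part: H440/TwoGen/Fi24
section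
prune_inst 0x420400074220000000000100000002420000000000000000880040008090201000000003220040011c20830404ac00000000009003000002000820000000000042120e00034100001000040f805180c00000000000000000000000000000000000000000
set_option linter.all false
open scoped Cfsg.Agent.FastGrp

/-!
# `Fi₂₄'` is 2-generated (helper440)
-/

set_option autoImplicit false

namespace Cfsg.Agent.H440.TwoGen.Fi24

open Cfsg.Spor Equiv Equiv.Perm
open Cfsg.Agent.CharactersDeep.SchurAltPerm Cfsg.Agent.H440.TwoGen.Alt Cfsg.Agent.H440.TwoGen.Path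

/-- a subgroup containing all `g τ` for the generators `g` contains the commutator subgroup -/
theorem commutator_le_of {P : Type*} [Group P] (s : Set P) (hs : Subgroup.closure s = ⊤) (S : Subgroup P) {j : P}
    (hj : j * j = 1) (hinv : ∀ g ∈ s, g * g = 1) (h : ∀ g ∈ s, g * j ∈ S) : commutator P ≤ S := by
  have hT : ∀ w : P, w ∈ S ∨ w * j ∈ S := by
    intro w
    have hw : w ∈ Subgroup.closure s := by rw [hs]; trivial
    have hstep : ∀ w : P, (w ∈ S ∨ w * j ∈ S) → ∀ g ∈ s, (w * g ∈ S ∨ w * g * j ∈ S) := by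
      intro w hw g hg
      rcases hw with hw | hw
      · right
        rw [mul_assoc]
        exact S.mul_mem hw (h g hg)
      · left
        have h1 : w * g = (w * j) * (g * j)⁻¹ := by
          rw [mul_inv_rev, inv_eq_of_mul_eq_one_left hj, inv_eq_of_mul_eq_one_left (hinv g hg)]
          calc w * g = w * (j * j) * g := by rw [hj, mul_one]
            _ = w * j * (j * g) := by simp only [mul_assoc]
        rw [h1]
        exact S.mul_mem hw (S.inv_mem (h g hg))
    induction hw using Subgroup.closure_induction_right with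
    | one => exact Or.inl S.one_mem
    | mul_right x _ y hy ih => exact hstep x ih y hy
    | mul_inv_cancel x _ y hy ih =>
      rw [inv_eq_of_mul_eq_one_left (hinv y hy)]
      exact hstep x ih y hy
  have hnorm : S.Normal := by
    refine ⟨fun s hs w => ?_⟩
    have hjs : ∀ s ∈ S, j * s * j ∈ S := by
      intro s hs
      rcases hT (j * s) with h1 | h1
      · have h2 : j ∈ S := by
          have := S.mul_mem h1 (S.inv_mem hs)
          rwa [mul_inv_cancel_right] at this
        exact S.mul_mem h1 h2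
      · exact h1
    rcases hT w with h1 | h1
    · exact S.mul_mem (S.mul_mem h1 hs) (S.inv_mem h1)
    · have h2 : w * s * w⁻¹ = (w * j) * (j * s * j) * (w * j)⁻¹ := by
        rw [mul_inv_rev, inv_eq_of_mul_eq_one_left hj]
        calc w * s * w⁻¹ = w * (j * j) * s * (j * j) * w⁻¹ := by rw [hj, mul_one, mul_one]
          _ = (w * j) * (j * s * j) * (j * w⁻¹) := by simp only [mul_assoc]
      rw [h2]
      exact S.mul_mem (S.mul_mem h1 (hjs s hs)) (S.inv_mem h1)
  rw [← Subgroup.Normal.quotient_commutative_iff_commutator_le]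
  have hq : ∀ a : P ⧸ S, a = 1 ∨ a = (j : P ⧸ S) := by
    intro a
    obtain ⟨w, rfl⟩ := QuotientGroup.mk_surjective a
    rcases hT w with h1 | h1
    · left; exact (QuotientGroup.eq_one_iff w).2 h1
    · right
      have h2 : ((w * j : P) : P ⧸ S) = 1 := (QuotientGroup.eq_one_iff _).2 h1
      rw [QuotientGroup.mk_mul] at h2
      have h3 : (j : P ⧸ S) * (j : P ⧸ S) = 1 := by rw [← QuotientGroup.mk_mul, hj]; rfl
      rw [eq_inv_of_mul_eq_one_left h2, inv_eq_of_mul_eq_one_left h3]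
  refine ⟨⟨fun a b => ?_⟩⟩
  rcases hq a with rfl | rfl <;> rcases hq b with rfl | rfl <;> simp

/-- abbreviation for the generators -/
abbrev γ (x : Fi24.Gen) : Fi24 := Cox.g Fi24.edges Fi24.extra x

/-- path -/
def pth (i : ℕ) : Fi24.Gen := [Fi24.Gen.l, .k, .a, .b, .c, .d, .e, .f, .g, .j].getD i .l

theorem node (x : Fi24.Gen) : x ∈ coxNodes Fi24.edges := by cases x <;> decide

theorem sq (x : Fi24.Gen) : γ x * γ x = 1 := Cox.sq (node x)

/-- all generators have the same image in the abelianization -/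
theorem ab_eq (x : Fi24.Gen) : Abelianization.of (γ x) = Abelianization.of (γ Fi24.Gen.d) := by
  have hadj : ∀ x y : Fi24.Gen, coxLabel Fi24.edges x y = 3 → Abelianization.of (γ x) = Abelianization.of (γ y) := by
    intro x y h
    have h1 := congrArg (Abelianization.of (G := Fi24)) (Cox.braid (extra := Fi24.extra) (node x) (node y) h)
    simp only [map_mul] at h1
    have h2 : ∀ a b : Abelianization Fi24, a * b * a = b * a * b → a = b := by
      intro a b h
      have h3 : a * b * a = a * b * b := by rw [h, mul_comm b a]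
      exact mul_left_cancel h3
    exact h2 _ _ h1
  have hc : Abelianization.of (γ .c) = Abelianization.of (γ Fi24.Gen.d) := hadj _ _ (by decide)
  have hb : Abelianization.of (γ .b) = Abelianization.of (γ Fi24.Gen.d) := (hadj _ _ (by decide)).trans hc
  have ha : Abelianization.of (γ .a) = Abelianization.of (γ Fi24.Gen.d) := (hadj _ _ (by decide)).trans hb
  have hk : Abelianization.of (γ .k) = Abelianization.of (γ Fi24.Gen.d) := (hadj _ _ (by decide)).trans ha
  have hl : Abelianization.of (γ .l) = Abelianization.of (γ Fi24.Gen.d) := (hadj _ _ (by decide)).trans hk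
  have he : Abelianization.of (γ .e) = Abelianization.of (γ Fi24.Gen.d) := hadj _ _ (by decide)
  have hf : Abelianization.of (γ .f) = Abelianization.of (γ Fi24.Gen.d) := (hadj _ _ (by decide)).trans he
  have hg : Abelianization.of (γ .g) = Abelianization.of (γ Fi24.Gen.d) := (hadj _ _ (by decide)).trans hf
  have hj : Abelianization.of (γ .j) = Abelianization.of (γ Fi24.Gen.d) := (hadj _ _ (by decide)).trans hg
  have hh : Abelianization.of (γ .h) = Abelianization.of (γ Fi24.Gen.d) := hadj _ _ (by decide)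
  have hi : Abelianization.of (γ .i) = Abelianization.of (γ Fi24.Gen.d) := (hadj _ _ (by decide)).trans hh
  cases x <;> first | assumption | rfl

theorem mem_commutator {g : Fi24} (h : Abelianization.of g = 1) : g ∈ commutator Fi24 := by
  have := Abelianization.ker_of Fi24
  rw [← this]
  exact h

theorem main : ∃ X Y : Fi24, X ∈ commutator Fi24 ∧ Y ∈ commutator Fi24 ∧
    commutator Fi24 ≤ Subgroup.closure {X, Y} := by
  obtain ⟨φ, hφ⟩ := exists_hom 10 (fun i => γ (pth i)) (fun i _ => sq _)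
    (fun i hi => Cox.braid (node _) (node _) ((by decide : ∀ i < 9, coxLabel Fi24.edges (pth i) (pth (i + 1)) = 3)
      i (by omega)))
    (fun i j hij hj => Cox.comm (node _) (node _)
      ((by decide : ∀ i < 10, ∀ j < 10, i + 1 < j → coxLabel Fi24.edges (pth i) (pth j) = 2) i (by omega) j hj hij))
  have hφ' : ∀ i (h : i < 10), φ (swap (⟨i, by omega⟩ : Fin 11) ⟨i + 1, by omega⟩) = γ (pth i) :=
    fun i h => hφ ⟨i, h⟩
  -- the permutations
  set c : Perm (Fin 11) := finRotate 11 with hc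
  set z : Perm (Fin 11) := x 8 9 10 with hz
  have hz' : z = swap (8 : Fin 11) 9 * swap (9 : Fin 11) 10 := by rw [hz]; decide
  have ha9 : c * z⁻¹ = swap (0 : Fin 11) 1 * swap (1 : Fin 11) 2 * swap (2 : Fin 11) 3 * swap (3 : Fin 11) 4 * swap (4 : Fin 11) 5 * swap (5 : Fin 11) 6 * swap (6 : Fin 11) 7 * swap (7 : Fin 11) 8 := by
    rw [hz, hc]; decide +kernel
  have h9 : (c * z⁻¹) ^ 9 = 1 := by rw [hz, hc]; decide +kernel
  have hz3 : z ^ 3 = 1 := by rw [hz]; decide +kernel
  have hcomm : (c * z⁻¹) * swap (9 : Fin 11) 10 = swap (9 : Fin 11) 10 * (c * z⁻¹) := by rw [hz, hc]; decide +kernel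
  have hcomm2 : z * swap (0 : Fin 11) 1 = swap (0 : Fin 11) 1 * z := by rw [hz]; decide +kernel
  have e9 : φ (swap (9 : Fin 11) 10) = γ .j := hφ' 9 (by norm_num)
  have e8 : φ (swap (8 : Fin 11) 9) = γ .g := hφ' 8 (by norm_num)
  have e0 : φ (swap (0 : Fin 11) 1) = γ .l := hφ' 0 (by norm_num)
  have hi : ∀ g, φ g * γ .i = γ .i * φ g := commute_range φ (fun m => by
    rw [hφ m]
    exact Cox.comm (node _) (node _) ((by decide : ∀ i < 10, coxLabel Fi24.edges (pth i) .i = 2) m m.isLt))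
  have hzh : φ z * γ .h = γ .h * φ z := by
    have k1 : γ .j * γ .h = γ .h * γ .j := Cox.comm (node _) (node _) (by decide)
    have k2 : γ .g * γ .h = γ .h * γ .g := Cox.comm (node _) (node _) (by decide)
    rw [hz', map_mul, e8, e9, mul_assoc, k1, ← mul_assoc, k2, mul_assoc]
  have hlh : γ .l * γ .h = γ .h * γ .l := Cox.comm (node _) (node _) (by decide)
  refine ⟨φ (c * z⁻¹) * (γ .i * γ .j), φ z * (γ .l * γ .h), ?_, ?_, ?_⟩
  · apply mem_commutator
    have t2 : Abelianization.of (γ Fi24.Gen.d) * Abelianization.of (γ Fi24.Gen.d) = 1 := by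
      rw [← map_mul, sq, map_one]
    rw [ha9]
    simp only [map_mul]
    rw [show φ (swap (0 : Fin 11) 1) = γ (pth 0) from hφ' 0 (by norm_num), show φ (swap (1 : Fin 11) 2) = γ (pth 1) from hφ' 1 (by norm_num),
      show φ (swap (2 : Fin 11) 3) = γ (pth 2) from hφ' 2 (by norm_num), show φ (swap (3 : Fin 11) 4) = γ (pth 3) from hφ' 3 (by norm_num),
      show φ (swap (4 : Fin 11) 5) = γ (pth 4) from hφ' 4 (by norm_num), show φ (swap (5 : Fin 11) 6) = γ (pth 5) from hφ' 5 (by norm_num),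
      show φ (swap (6 : Fin 11) 7) = γ (pth 6) from hφ' 6 (by norm_num), show φ (swap (7 : Fin 11) 8) = γ (pth 7) from hφ' 7 (by norm_num)]
    simp only [ab_eq]
    simp only [mul_assoc, t2, mul_one]
  · apply mem_commutator
    have t2 : Abelianization.of (γ Fi24.Gen.d) * Abelianization.of (γ Fi24.Gen.d) = 1 := by
      rw [← map_mul, sq, map_one]
    rw [hz']
    simp only [map_mul]
    rw [e8, e9]
    simp only [ab_eq]
    simp only [mul_assoc, t2, mul_one]
  · set S := Subgroup.closure ({φ (c * z⁻¹) * (γ .i * γ .j), φ z * (γ .l * γ .h)} : Set Fi24) with hS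
    have m1 : φ (c * z⁻¹) * (γ .i * γ .j) ∈ S := Subgroup.subset_closure (Set.mem_insert _ _)
    have m2 : φ z * (γ .l * γ .h) ∈ S := Subgroup.subset_closure (Set.mem_insert_of_mem _ (Set.mem_singleton _))
    have hij : γ .i * γ .j = γ .j * γ .i := Cox.comm (node _) (node _) (by decide)
    have c1 : φ (c * z⁻¹) * (γ .i * γ .j) = (γ .i * γ .j) * φ (c * z⁻¹) := by
      rw [← mul_assoc, hi, mul_assoc, ← e9, ← map_mul, hcomm, map_mul, mul_assoc]
    have c2 : φ z * (γ .l * γ .h) = (γ .l * γ .h) * φ z := by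
      rw [← mul_assoc, ← e0, ← map_mul, hcomm2, map_mul, mul_assoc, hzh, mul_assoc]
    have o1 : (γ .i * γ .j) ^ 2 = 1 := by
      rw [pow_two, mul_assoc, ← mul_assoc (γ .j), ← hij, mul_assoc, sq, mul_one, sq]
    have o2 : (γ .l * γ .h) ^ 2 = 1 := by
      rw [pow_two, mul_assoc, ← mul_assoc (γ .h), ← hlh, mul_assoc, sq, mul_one, sq]
    have o3 : φ (c * z⁻¹) ^ 9 = 1 := by rw [← map_pow, h9, map_one]
    have o4 : φ z ^ 3 = 1 := by rw [← map_pow, hz3, map_one]
    have s1 : φ (c * z⁻¹) ∈ S := left_mem_of_pow S c1 o3 o1 (by decide) m1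
    have s2 : γ .i * γ .j ∈ S := right_mem_of_pow S c1 o3 o1 (by decide) m1
    have s3 : φ z ∈ S := left_mem_of_pow S c2 o4 o2 (by decide) m2
    have s4 : γ .l * γ .h ∈ S := right_mem_of_pow S c2 o4 o2 (by decide) m2
    have hcS : c ∈ S.comap φ := by
      have h1 : φ (c * z⁻¹) * φ z ∈ S := S.mul_mem s1 s3
      rw [← map_mul, inv_mul_cancel_right] at h1
      exact h1
    have hxS : x (⟨0, by omega⟩ : Fin 11) ⟨1, by omega⟩ ⟨2, by omega⟩ ∈ S.comap φ := by
      have h1 : (c ^ 8)⁻¹ * z * c ^ 8 ∈ S.comap φ :=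
        Subgroup.mul_mem _ (Subgroup.mul_mem _ (Subgroup.inv_mem _ (Subgroup.pow_mem _ hcS 8)) s3)
          (Subgroup.pow_mem _ hcS 8)
      have h2 : x (⟨0, by omega⟩ : Fin 11) ⟨1, by omega⟩ ⟨2, by omega⟩ = (c ^ 8)⁻¹ * z * c ^ 8 := by
        rw [hz, hc]; decide +kernel
      rw [h2]; exact h1
    have hA : alternatingGroup (Fin 11) ≤ S.comap φ :=
      odd_case (by norm_num) _ c (fun i h => finRotate_of_lt (by omega)) hcS hxS
    have hp : ∀ i (_ : i < 10), γ (pth i) * γ .j ∈ S := by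
      intro i hi
      rw [← hφ' i hi, ← e9, ← map_mul]
      refine hA (mem_alternatingGroup.2 ?_)
      rw [Perm.sign_mul, sign_swap (ne_mk _ _ (by omega)), sign_swap (by decide)]
      decide
    refine commutator_le_of (Set.range fun x : Fi24.Gen => γ x) (PresentedGroup.closure_range_of _) S (sq .j) ?_ ?_
    · rintro _ ⟨x, rfl⟩; exact sq x
    · rintro _ ⟨x, rfl⟩
      cases x
      case h =>
        have h1 := S.mul_mem (S.inv_mem s4) (hp 0 (by norm_num))
        have h2 : (γ .l * γ .h)⁻¹ * (γ (pth 0) * γ .j) = γ .h * γ .j := by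
          rw [mul_inv_rev, inv_eq_of_mul_eq_one_left (sq .l), inv_eq_of_mul_eq_one_left (sq .h)]
          show γ .h * γ .l * (γ .l * γ .j) = _
          rw [mul_assoc, ← mul_assoc (γ .l), sq, one_mul]
        rw [h2] at h1
        exact h1
      case i => exact s2
      case l => exact hp 0 (by norm_num)
      case k => exact hp 1 (by norm_num)
      case a => exact hp 2 (by norm_num)
      case b => exact hp 3 (by norm_num)
      case c => exact hp 4 (by norm_num)
      case d => exact hp 5 (by norm_num)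
      case e => exact hp 6 (by norm_num)
      case f => exact hp 7 (by norm_num)
      case g => exact hp 8 (by norm_num)
      case j => exact hp 9 (by norm_num)

/-- **`Fi₂₄'`** -/
theorem twoGen_fi24 {G : Type*} [Group G] (h : Cfsg.Spor.IsoFi24' G) : TwoGen G := by
  obtain ⟨e⟩ := h
  have h1 : TwoGen ↥(commutator Fi24) := Cfsg.Agent.H136.TwoGen.of_ambient _ main
  exact h1.of_equiv e.symm

end Cfsg.Agent.H440.TwoGen.Fi24
end

-- part: H440/TwoGen/JThree
section
set_option linter.all false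
open scoped Cfsg.Agent.FastGrp

/-!
# `J3` is 2-generated (helper440)

`3·J3 = ⟨B, C D⟩` with `B = B_{1+i}` of order `8` and `C D = C_1 D_i` of order `17`.
-/

set_option autoImplicit false
set_option maxRecDepth 100000

namespace Cfsg.Agent.H440.TwoGen.JThree

open Cfsg.Spor Cfsg.Agent.J3.Core Cfsg.Agent.J3.Tab Cfsg.Agent.J3.Mono Cfsg.Agent.J3.Elts
open Cfsg.Agent.Lib.BitSet Cfsg.Agent.J3.Order Cfsg.Agent.J3.Nineteen Cfsg.Agent.J3.Simple Matrix

/-- table of `P⁻¹` -/
def tP' : List ℕ := powT (tB u0) 7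
/-- table of `Q` -/
def tQ : List ℕ := compT tC (tD j)
/-- table of `Q⁻¹` -/
def tQ' : List ℕ := powT tQ 16

/-- tables of the letters `P, P⁻¹, Q, Q⁻¹` -/
def tl : ℕ → List ℕ
  | 0 => tB u0
  | 1 => tP'
  | 2 => tQ
  | _ => tQ'

/-- table of a word -/
def evT : List ℕ → List ℕ
  | [] => tS 0
  | l :: w => compT (tl l) (evT w)

/-- word for `A_i` -/
def wa : List ℕ := [0, 0, 3, 0, 0, 2, 1, 3, 1, 2]
/-- word for `D_i` -/
def wd : List ℕ := [0, 3, 1, 1, 2, 0, 3, 0, 0, 2, 1, 1]
/-- word for `E_0` -/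
def we : List ℕ := [3, 0, 2, 0, 0, 3, 0, 2, 1, 3, 1, 1, 2, 1]
/-- word for `C_1` -/
def wc : List ℕ := [0, 3, 1, 1, 2, 0, 3, 0, 0, 2, 1, 1, 3]

theorem chk_a : beqL (cols (evT wa)) (cols (tA j)) = true := by decide +kernel
theorem chk_d : beqL (cols (evT wd)) (cols (tD j)) = true := by decide +kernel
theorem chk_e : beqL (cols (evT we)) (cols tE) = true := by decide +kernel
theorem chk_c : beqL (cols (evT wc)) (cols tC) = true := by decide +kernel

section
variable {F : Type*} [Field F] {ω : F}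

/-- the letters as group elements -/
def xl (G : Gens F ω) : ℕ → threeJ3 F ω
  | 0 => G.b u0
  | 1 => G.b u0 ^ 7
  | 2 => G.c * G.d j
  | _ => (G.c * G.d j) ^ 16

theorem rep_l (H : Good ω) (G : Gens F ω) (l : ℕ) : RepG ω (tl l) (xl G l) := by
  have h0 : RepG ω (tB u0) (G.b u0) := rB G H u0 u0_ne
  have h2 : RepG ω tQ (G.c * G.d j) := (rC G H).mul (rD G H j)
  match l with
  | 0 => exact h0
  | 1 => exact h0.pow H 7
  | 2 => exact h2
  | n + 3 => exact h2.pow H 16

theorem rep_w (H : Good ω) (G : Gens F ω) (w : List ℕ) : RepG ω (evT w) (w.map (xl G)).prod := by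
  induction w with
  | nil => exact repG_one H
  | cons l w ih =>
    rw [List.map_cons, List.prod_cons]
    exact (rep_l H G l).mul ih

theorem mem_w (G : Gens F ω) {N : Subgroup (threeJ3 F ω)} (hP : G.b u0 ∈ N) (hQ : G.c * G.d j ∈ N)
    (w : List ℕ) : (w.map (xl G)).prod ∈ N := by
  apply Subgroup.list_prod_mem
  intro y hy
  obtain ⟨l, -, rfl⟩ := List.mem_map.1 hy
  match l with
  | 0 => exact hP
  | 1 => exact N.pow_mem hP 7
  | 2 => exact hQ
  | n + 3 => exact N.pow_mem hQ 16

theorem closure_eq (H : Good ω) (G : Gens F ω) :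
    Subgroup.closure ({G.b u0, G.c * G.d j} : Set (threeJ3 F ω)) = ⊤ := by
  set N := Subgroup.closure ({G.b u0, G.c * G.d j} : Set (threeJ3 F ω)) with hN
  have hP : G.b u0 ∈ N := Subgroup.subset_closure (by simp)
  have hQ : G.c * G.d j ∈ N := Subgroup.subset_closure (by simp)
  have ha : G.a j ∈ N := by
    rw [← (rep_w H G wa).ext (rA G H j) (beqL_eq chk_a)]
    exact mem_w G hP hQ wa
  have hd : G.d j ∈ N := by
    rw [← (rep_w H G wd).ext (rD G H j) (beqL_eq chk_d)]
    exact mem_w G hP hQ wd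
  have he : G.e ∈ N := by
    rw [← (rep_w H G we).ext (rE G H) (beqL_eq chk_e)]
    exact mem_w G hP hQ we
  have hc : G.c ∈ N := by
    rw [← (rep_w H G wc).ext (rC G H) (beqL_eq chk_c)]
    exact mem_w G hP hQ wc
  have hb : ∀ Z, Z ≠ 0 → G.b Z ∈ N := by
    intro Z hZ
    obtain ⟨n, -, hn⟩ := chkPow Z hZ
    have h1 : G.b Z = G.b u0 ^ n :=
      ((rB G H Z hZ).ext ((rB G H u0 u0_ne).pow H n) (beqL_eq hn).symm)
    rw [h1]
    exact N.pow_mem hP n
  have hA0 : G.a 0 = 1 := mat_injective (by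
    rw [G.ha, map_one]
    exact Rep.ext (repA H 0) (rep_one H) (by decide +kernel))
  have hD0 : G.d 0 = 1 := mat_injective (by
    rw [G.hd, map_one]
    exact Rep.ext (repD H 0) (rep_one H) (by decide +kernel))
  have hA : ∀ Z, G.a Z ∈ N := by
    intro Z
    by_cases hZ : Z = 0
    · rw [hZ, hA0]; exact N.one_mem
    · obtain ⟨u, hu, e⟩ := exists_conj Z hZ
      have h1 : G.a j * G.b u = G.b u * G.a Z := mat_injective (by
        rw [map_mul, map_mul, G.ha, G.hb u hu, G.ha, relAB H j u hu, e])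
      have h2 : G.a Z = (G.b u)⁻¹ * (G.a j * G.b u) := by rw [h1]; group
      rw [h2]
      exact N.mul_mem (N.inv_mem (hb u hu)) (N.mul_mem ha (hb u hu))
  have hD : ∀ Z, G.d Z ∈ N := by
    intro Z
    by_cases hZ : Z = 0
    · rw [hZ, hD0]; exact N.one_mem
    · obtain ⟨u, hu, e⟩ := exists_div Z hZ
      have h1 : G.d j * G.b u = G.b u * G.d Z := mat_injective (by
        rw [map_mul, map_mul, G.hd, G.hb u hu, G.hd, relDB H j u hu, e])
      have h2 : G.d Z = (G.b u)⁻¹ * (G.d j * G.b u) := by rw [h1]; group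
      rw [h2]
      exact N.mul_mem (N.inv_mem (hb u hu)) (N.mul_mem hd (hb u hu))
  refine G.eq_top H (fun x n hx => ?_) hA hD hb he hc
  -- the scalars
  obtain ⟨s, hs⟩ := exists_scalar H G
  have hDA : G.d j * G.a j = s ^ 2 * (G.a j * G.d j) := by
    apply mat_injective
    rw [map_mul, map_mul, map_pow, map_mul, hs, G.hd, G.ha, relDA H j j, dot_jj, smul_pow, one_pow]
  have hs3 : s ^ 3 = 1 := by
    apply mat_injective
    rw [map_pow, hs, smul_pow, one_pow, H.cube, one_smul, map_one]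
  have hs2 : s ^ 2 ∈ N := by
    have h1 : s ^ 2 = G.d j * G.a j * (G.a j * G.d j)⁻¹ := by rw [hDA]; group
    rw [h1]
    exact N.mul_mem (N.mul_mem hd ha) (N.inv_mem (N.mul_mem ha hd))
  have hsN : s ∈ N := by
    have h1 : s = (s ^ 2) ^ 2 := by
      rw [← pow_mul]
      calc s = s ^ 3 * s := by rw [hs3, one_mul]
        _ = s ^ (2 * 2) := by rw [← pow_succ]
    rw [h1]
    exact N.pow_mem hs2 2
  have : x = s ^ n := mat_injective (by rw [hx, map_pow, hs, smul_pow, one_pow])
  rw [this]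
  exact N.pow_mem hsN n

end

/-- **`J3` is generated by two elements.** -/
theorem twoGen_j3 {G : Type*} [Group G] (h : Cfsg.Spor.IsoJ3 G) : TwoGen G := by
  obtain ⟨F, _, _, ω, hF, hω, e⟩ := h
  have H := good_of_card hF hω
  obtain ⟨Gn⟩ := exists_gens hF H
  refine TwoGen.of_equiv' e ?_
  exact TwoGen.of_surjective (QuotientGroup.mk' _) (QuotientGroup.mk'_surjective _)
    ⟨_, _, closure_eq H Gn⟩

end Cfsg.Agent.H440.TwoGen.JThree
end

-- part: H440/TwoGen/HNHe
section
prune_inst 0x420000073220000001800100200003400000000000000000880050208090200204500010a600400900208d008040000001001000030000000000800000001200021000000100c0011000000b005180c00000000000000000000000000000000000000000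
set_option linter.all false
open scoped Cfsg.Agent.FastGrp

/-!
# `HN` and `He` are 2-generated (helper440)

* `HN = ⟨y t, x z⟩`: `y`, `t` commute with coprime orders, and `z t z ∈ ⟨t, x z⟩`, `z = t (z t z) t`;
* `He = ⟨(a b)(d f), (b c)(f g)⟩`.
-/

set_option autoImplicit false

namespace Cfsg.Agent.H440.TwoGen.HNHe

open Cfsg.Spor

/-- a relator of a presented group is trivial -/
theorem extra_rel {α : Type*} [DecidableEq α] {edges : List (α × ℕ × α)} {extra : List (FreeGroup α)}
    {r : FreeGroup α} (hr : r ∈ extra) :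
    (PresentedGroup.mk (Cfsg.Spor.coxRelators edges ∪ {r | r ∈ extra}) r) = 1 :=
  PresentedGroup.one_of_mem (Or.inr hr)

/-! ## `HN` -/

theorem hn_abs {G : Type*} [Group G] {x y z t : G} (hy : y ^ 6 = 1) (ht : t ^ 5 = 1) (hty : t⁻¹ * y⁻¹ * t * y = 1)
    (hz : z ^ 2 = 1) (hxt : (x⁻¹ * t * x) * (t ^ 2) = 1) (hzt : (z * t) ^ 3 = 1) (S : Subgroup G)
    (h1 : y * t ∈ S) (h2 : x * z ∈ S) : x ∈ S ∧ y ∈ S ∧ z ∈ S ∧ t ∈ S := by
  have hc : y * t = t * y := by
    have h3 : t * y = (y * t) * (t⁻¹ * y⁻¹ * t * y) := by group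
    rw [h3, hty, mul_one]
  have hyS : y ∈ S := left_mem_of_pow S hc hy ht (by decide) h1
  have htS : t ∈ S := right_mem_of_pow S hc hy ht (by decide) h1
  have hzz : z * z = 1 := by rw [← pow_two]; exact hz
  have hzi : z⁻¹ = z := inv_eq_of_mul_eq_one_left hzz
  -- `z t⁻² z ∈ S`
  have h3 : z * (t ^ 2)⁻¹ * z ∈ S := by
    have h4 : (x * z)⁻¹ * t * (x * z) = z * (t ^ 2)⁻¹ * z := by
      have h5 : x⁻¹ * t * x = (t ^ 2)⁻¹ := eq_inv_of_mul_eq_one_left hxt
      calc (x * z)⁻¹ * t * (x * z) = z⁻¹ * (x⁻¹ * t * x) * z := by group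
        _ = z * (t ^ 2)⁻¹ * z := by rw [h5, hzi]
    rw [← h4]
    exact S.mul_mem (S.mul_mem (S.inv_mem h2) htS) h2
  have h4 : z * t * z ∈ S := by
    have h5 : (z * (t ^ 2)⁻¹ * z) ^ 2 = z * t * z := by
      have h6 : (t ^ 2)⁻¹ * (t ^ 2)⁻¹ = t := by
        have h7 : t * (t ^ 2 * t ^ 2) = 1 := by
          rw [← ht]; group
        rw [← mul_inv_rev]
        exact (eq_inv_of_mul_eq_one_left h7).symm
      calc (z * (t ^ 2)⁻¹ * z) ^ 2 = z * (t ^ 2)⁻¹ * (z * z) * (t ^ 2)⁻¹ * z := by rw [pow_two]; simp only [mul_assoc]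
        _ = z * ((t ^ 2)⁻¹ * (t ^ 2)⁻¹) * z := by rw [hzz, mul_one]; simp only [mul_assoc]
        _ = z * t * z := by rw [h6]
    rw [← h5]
    exact S.pow_mem h3 2
  have hzS : z ∈ S := by
    have h5 : z = t * (z * t * z) * t := by
      have h6 : (z * t) * (z * t) * (z * t) = 1 := by rw [← hzt]; simp only [pow_succ, pow_zero, one_mul]
      have h7 : z * (t * (z * t * z) * t) = 1 := by rw [← h6]; simp only [mul_assoc]
      have h8 := inv_eq_of_mul_eq_one_right h7
      rwa [hzi] at h8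
    rw [h5]
    exact S.mul_mem (S.mul_mem htS h4) htS
  have hxS : x ∈ S := by
    have := S.mul_mem h2 hzS
    rwa [mul_assoc, hzz, mul_one] at this
  exact ⟨hxS, hyS, hzS, htS⟩

abbrev h (x : HN.Gen) : HN := Cox.g HN.edges HN.extra x

theorem hn : TwoGen HN := by
  have k1 := extra_rel (edges := HN.edges) (extra := HN.extra) (r := HN.y ^ 6) (by simp only [HN.extra, _root_.mul_inv_rev, _root_.inv_inv, _root_.List.mem_cons, _root_.List.not_mem_nil, _root_.or_false, _root_.true_or])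
  have k2 := extra_rel (edges := HN.edges) (extra := HN.extra) (r := HN.t ^ 5) (by simp only [HN.extra, _root_.mul_inv_rev, _root_.inv_inv, _root_.List.mem_cons, _root_.List.not_mem_nil, _root_.or_false, _root_.true_or, _root_.or_true])
  have k3 := extra_rel (edges := HN.edges) (extra := HN.extra) (r := HN.t⁻¹ * HN.y⁻¹ * HN.t * HN.y)
    (by simp only [HN.extra, _root_.mul_inv_rev, _root_.inv_inv, _root_.List.mem_cons, _root_.List.not_mem_nil, _root_.or_false, _root_.true_or, _root_.or_true])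
  have k4 := extra_rel (edges := HN.edges) (extra := HN.extra) (r := HN.z ^ 2) (by simp only [HN.extra, _root_.mul_inv_rev, _root_.inv_inv, _root_.List.mem_cons, _root_.List.not_mem_nil, _root_.or_false, _root_.true_or, _root_.or_true])
  have k5 := extra_rel (edges := HN.edges) (extra := HN.extra) (r := (HN.x⁻¹ * HN.t * HN.x) * (HN.t ^ 2))
    (by simp only [HN.extra, _root_.mul_inv_rev, _root_.inv_inv, _root_.List.mem_cons, _root_.List.not_mem_nil, _root_.or_false, _root_.true_or, _root_.or_true])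
  have k6 := extra_rel (edges := HN.edges) (extra := HN.extra) (r := (HN.z * HN.t) ^ 3) (by simp only [HN.extra, _root_.mul_inv_rev, _root_.inv_inv, _root_.List.mem_cons, _root_.List.not_mem_nil, _root_.or_false, _root_.or_true])
  simp only [map_mul, map_pow, map_inv] at k1 k2 k3 k4 k5 k6
  refine ⟨h .y * h .t, h .x * h .z, Cox.eq_top_of_forall _ fun w => ?_⟩
  obtain ⟨h1, h2, h3, h4⟩ := hn_abs (x := h .x) (y := h .y) (z := h .z) (t := h .t) k1 k2 k3 k4 k5 k6
    (Subgroup.closure {h .y * h .t, h .x * h .z}) (Subgroup.subset_closure (Set.mem_insert _ _))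
    (Subgroup.subset_closure (Set.mem_insert_of_mem _ (Set.mem_singleton _)))
  cases w
  · exact h1
  · exact h2
  · exact h3
  · exact h4

/-- **`HN`** -/
theorem twoGen_hn {G : Type*} [Group G] (h : Cfsg.Spor.IsoHN G) : TwoGen G := hn.of_equiv' h

/-! ## `He` -/

abbrev e (x : He.Gen) : He := Cox.g He.edges He.extra x

theorem node (x : He.Gen) : x ∈ coxNodes He.edges := by cases x <;> decide

theorem he_abs {G : Type*} [Group G] {a b c d e f g : G} (ha : a * a = 1) (hb : b * b = 1) (hc : c * c = 1)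
    (hd : d * d = 1) (hf : f * f = 1)
    (hab : (a * b) ^ 4 = 1) (hdf : (d * f) ^ 3 = 1) (hbc : (b * c) ^ 3 = 1) (hfg : (f * g) ^ 4 = 1)
    (had : a * d = d * a) (haf : a * f = f * a) (hbd : b * d = d * b) (hbf : b * f = f * b) (hbg : b * g = g * b)
    (hcf : c * f = f * c) (hcg : c * g = g * c)
    (he1 : e = (f * g) ^ 2) (he2 : e = (a * b * c) ^ 3) (ha5 : a = (c * d) ^ 5) (S : Subgroup G)
    (h1 : (a * b) * (d * f) ∈ S) (h2 : (b * c) * (f * g) ∈ S) :
    a ∈ S ∧ b ∈ S ∧ c ∈ S ∧ d ∈ S ∧ e ∈ S ∧ f ∈ S ∧ g ∈ S := by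
  have c1 : (a * b) * (d * f) = (d * f) * (a * b) := by
    calc (a * b) * (d * f) = a * (b * d) * f := by simp only [mul_assoc]
      _ = a * d * (b * f) := by rw [hbd]; simp only [mul_assoc]
      _ = (a * d) * f * b := by rw [hbf]; simp only [mul_assoc]
      _ = d * (a * f) * b := by rw [had]; simp only [mul_assoc]
      _ = (d * f) * (a * b) := by rw [haf]; simp only [mul_assoc]
  have c2 : (b * c) * (f * g) = (f * g) * (b * c) := by
    calc (b * c) * (f * g) = b * (c * f) * g := by simp only [mul_assoc]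
      _ = b * f * (c * g) := by rw [hcf]; simp only [mul_assoc]
      _ = (b * f) * g * c := by rw [hcg]; simp only [mul_assoc]
      _ = f * (b * g) * c := by rw [hbf]; simp only [mul_assoc]
      _ = (f * g) * (b * c) := by rw [hbg]; simp only [mul_assoc]
  have s1 : a * b ∈ S := left_mem_of_pow S c1 hab hdf (by decide) h1
  have s2 : d * f ∈ S := right_mem_of_pow S c1 hab hdf (by decide) h1
  have s3 : b * c ∈ S := left_mem_of_pow S c2 hbc hfg (by decide) h2
  have s4 : f * g ∈ S := right_mem_of_pow S c2 hbc hfg (by decide) h2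
  have s5 : e ∈ S := by rw [he1]; exact S.pow_mem s4 2
  have hai : a⁻¹ = a := inv_eq_of_mul_eq_one_left ha
  have hbi : b⁻¹ = b := inv_eq_of_mul_eq_one_left hb
  have hci : c⁻¹ = c := inv_eq_of_mul_eq_one_left hc
  have hfi : f⁻¹ = f := inv_eq_of_mul_eq_one_left hf
  -- `a e⁻¹` is an even word in `a, b, c`
  have sba : b * a ∈ S := by
    have := S.inv_mem s1
    rwa [mul_inv_rev, hai, hbi] at this
  have scb : c * b ∈ S := by
    have := S.inv_mem s3
    rwa [mul_inv_rev, hci, hbi] at this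
  have sac : a * c ∈ S := by
    have := S.mul_mem s1 s3
    have h3 : a * b * (b * c) = a * c := by
      calc a * b * (b * c) = a * (b * b) * c := by simp only [mul_assoc]
        _ = a * c := by rw [hb, mul_one]
    rwa [h3] at this
  have s6 : a ∈ S := by
    have h3 : a * e = (b * c) * (a * b) * (a * c)⁻¹ * (b * c) := by
      rw [he2, mul_inv_rev, hai, hci]
      calc a * (a * b * c) ^ 3 = (a * a) * b * c * (a * b * c) * (a * b * c) := by
            simp only [pow_succ, pow_zero, one_mul, mul_assoc]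
        _ = b * c * (a * b) * (c * a) * (b * c) := by rw [ha, one_mul]; simp only [mul_assoc]
    have h4 : a * e ∈ S := by
      rw [h3]
      exact S.mul_mem (S.mul_mem (S.mul_mem s3 s1) (S.inv_mem sac)) s3
    have h5 := S.mul_mem h4 (S.inv_mem s5)
    rwa [mul_inv_cancel_right] at h5
  have s7 : b ∈ S := by
    have := S.mul_mem s6 s1
    rwa [← mul_assoc, ha, one_mul] at this
  have s8 : c ∈ S := by
    have := S.mul_mem s7 s3
    rwa [← mul_assoc, hb, one_mul] at this
  -- `c ^ d ∈ S`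
  have s9 : d * c * d⁻¹ ∈ S := by
    have h3 : (d * f) * c * (d * f)⁻¹ = d * c * d⁻¹ := by
      calc (d * f) * c * (d * f)⁻¹ = d * (f * c) * f⁻¹ * d⁻¹ := by group
        _ = d * c * d⁻¹ := by rw [← hcf]; group
    rw [← h3]
    exact S.mul_mem (S.mul_mem s2 s8) (S.inv_mem s2)
  have s10 : (c * d) ^ 2 ∈ S := by
    have h3 : (c * d) ^ 2 = c * (d * c * d⁻¹) := by
      rw [pow_two, inv_eq_of_mul_eq_one_left hd]; simp only [mul_assoc]
    rw [h3]
    exact S.mul_mem s8 s9
  have s11 : c * d ∈ S := by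
    have h3 : c * d = (c * d) ^ 5 * (((c * d) ^ 2) ^ 2)⁻¹ := by group
    rw [h3, ← ha5]
    exact S.mul_mem s6 (S.inv_mem (S.pow_mem s10 2))
  have s12 : d ∈ S := by
    have := S.mul_mem s8 s11
    rwa [← mul_assoc, hc, one_mul] at this
  have s13 : f ∈ S := by
    have := S.mul_mem s12 s2
    rwa [← mul_assoc, hd, one_mul] at this
  have s14 : g ∈ S := by
    have := S.mul_mem s13 s4
    rwa [← mul_assoc, hf, one_mul] at this
  exact ⟨s6, s7, s8, s12, s5, s13, s14⟩

theorem he : TwoGen He := by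
  have k1 := extra_rel (edges := He.edges) (extra := He.extra) (r := He.e * ((He.f * He.g) ^ 2)⁻¹)
    (by simp only [He.extra, _root_.List.mem_cons, _root_.mul_right_inj, _root_.inv_inj, _root_.List.not_mem_nil, _root_.or_false, _root_.true_or])
  have k2 := extra_rel (edges := He.edges) (extra := He.extra) (r := He.e * ((He.a * He.b * He.c) ^ 3)⁻¹)
    (by simp only [He.extra, _root_.List.mem_cons, _root_.mul_right_inj, _root_.inv_inj, _root_.List.not_mem_nil, _root_.or_false, _root_.true_or, _root_.or_true])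
  have k3 := extra_rel (edges := He.edges) (extra := He.extra) (r := He.a * ((He.c * He.d) ^ 5)⁻¹)
    (by simp only [He.extra, _root_.List.mem_cons, _root_.List.not_mem_nil, _root_.or_false, _root_.true_or, _root_.or_true])
  simp only [map_mul, map_pow, map_inv] at k1 k2 k3
  have r : ∀ x y : He.Gen, ∀ m, coxLabel He.edges x y = m → (e x * e y) ^ m = 1 := by
    rintro x y m rfl
    exact Cox.rel (node x) (node y)
  refine ⟨(e .a * e .b) * (e .d * e .f), (e .b * e .c) * (e .f * e .g), Cox.eq_top_of_forall _ fun w => ?_⟩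
  obtain ⟨h1, h2, h3, h4, h5, h6, h7⟩ := he_abs (a := e .a) (b := e .b) (c := e .c) (d := e .d) (e := e .e)
    (f := e .f) (g := e .g) (Cox.sq (node _)) (Cox.sq (node _)) (Cox.sq (node _)) (Cox.sq (node _))
    (Cox.sq (node _)) (r _ _ _ (by decide)) (r _ _ _ (by decide)) (r _ _ _ (by decide)) (r _ _ _ (by decide))
    (Cox.comm (node _) (node _) (by decide)) (Cox.comm (node _) (node _) (by decide))
    (Cox.comm (node _) (node _) (by decide)) (Cox.comm (node _) (node _) (by decide))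
    (Cox.comm (node _) (node _) (by decide)) (Cox.comm (node _) (node _) (by decide))
    (Cox.comm (node _) (node _) (by decide))
    (mul_inv_eq_one.1 k1) (mul_inv_eq_one.1 k2) (mul_inv_eq_one.1 k3)
    (Subgroup.closure {(e .a * e .b) * (e .d * e .f), (e .b * e .c) * (e .f * e .g)})
    (Subgroup.subset_closure (Set.mem_insert _ _))
    (Subgroup.subset_closure (Set.mem_insert_of_mem _ (Set.mem_singleton _)))
  cases w
  · exact h1
  · exact h2
  · exact h3
  · exact h4
  · exact h5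
  · exact h6
  · exact h7

/-- **`He`** -/
theorem twoGen_he {G : Type*} [Group G] (h : Cfsg.Spor.IsoHe G) : TwoGen G := he.of_equiv' h

end Cfsg.Agent.H440.TwoGen.HNHe

private theorem dce_32d5266576fc : _root_.True := by
  try have : _root_.True := by simp only [_root_.Cfsg.Spor.HN.extra.eq_1]
  try have : _root_.True := by simp only [_root_.Cfsg.Spor.He.extra.eq_1]
  exact _root_.True.intro
end

-- part: H440/TwoGen/CoxInst
section
set_option linter.all false

/-!
# `Fi₂₂`, `Fi₂₃` and the Baby Monster are 2-generated (helper440)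
-/

set_option autoImplicit false

namespace Cfsg.Agent.H440.TwoGen.CoxInst

open Cfsg.Spor Equiv Equiv.Perm

/-- path of Fi22 -/
def p22 (i : ℕ) : Fi22.Gen := [Fi22.Gen.a, .b, .c, .d, .e, .f, .g].getD i .a

theorem fi22 : TwoGen Fi22 := by
  refine Cox.twoGen_arm2 (n := 7) (by norm_num) p22 3 (by norm_num) (by norm_num) Fi22.Gen.h Fi22.Gen.i
    (by intro x; cases x <;> decide) (by decide) (by decide) (by decide) (by decide) (by decide) (by decide)
    (by intro x; cases x <;> first | exact Or.inl rfl | exact Or.inr (Or.inl rfl) | exact Or.inr (Or.inr (by decide)))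
    (swap (⟨0, by norm_num⟩ : Fin (7 + 1)) ⟨1, by norm_num⟩ * finRotate (7 + 1)) (m := 7) (by decide) (by decide)
    (fun S h1 h2 => Star.cz_even (by norm_num) S h1 h2)

/-- path of Fi23 -/
def p23 (i : ℕ) : Fi23.Gen := [Fi23.Gen.a, .b, .c, .d, .e, .f, .g, .j].getD i .a

theorem fi23 : TwoGen Fi23 := by
  refine Cox.twoGen_arm2 (n := 8) (by norm_num) p23 3 (by norm_num) (by norm_num) Fi23.Gen.h Fi23.Gen.i
    (by intro x; cases x <;> decide) (by decide) (by decide) (by decide) (by decide) (by decide) (by decide)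
    (by intro x; cases x <;> first | exact Or.inl rfl | exact Or.inr (Or.inl rfl) | exact Or.inr (Or.inr (by decide)))
    (finRotate (8 + 1)) (m := 9) (by decide) (by decide)
    (fun S h1 h2 => Star.cz_odd (by norm_num) S h1 h2)

/-- path of B -/
def pB (i : ℕ) : BabyMonster.Gen := [BabyMonster.Gen.t1, .t2, .t3, .t4, .t5, .t6, .t7, .t8].getD i .t1

theorem b : TwoGen BabyMonster := by
  refine Cox.twoGen_arm3 (n := 8) (by norm_num) pB 4 (by norm_num) (by norm_num) BabyMonster.Gen.t9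
    BabyMonster.Gen.t10 BabyMonster.Gen.t11
    (by intro x; cases x <;> decide) (by decide) (by decide) (by decide) (by decide) (by decide) (by decide)
    (by decide) (by decide) (by decide) (by decide) (by decide)
    (by intro x; cases x <;> first | exact Or.inl rfl | exact Or.inr (Or.inl rfl) | exact Or.inr (Or.inr (Or.inl rfl)) | exact Or.inr (Or.inr (Or.inr (by decide))))
    (finRotate (8 + 1)) (m := 9) (by decide) (by decide)
    (fun S h1 h2 => Star.cz_odd (by norm_num) S h1 h2)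

/-- **`Fi₂₂`** -/
theorem twoGen_fi22 {G : Type*} [Group G] (h : Cfsg.Spor.IsoFi22 G) : TwoGen G := fi22.of_equiv' h

/-- **`Fi₂₃`** -/
theorem twoGen_fi23 {G : Type*} [Group G] (h : Cfsg.Spor.IsoFi23 G) : TwoGen G := fi23.of_equiv' h

/-- **the Baby Monster** -/
theorem twoGen_b {G : Type*} [Group G] (h : Cfsg.Spor.IsoB G) : TwoGen G := b.of_equiv' h

end Cfsg.Agent.H440.TwoGen.CoxInst
end

-- part: H440/TwoGen/MonsterM
section
set_option linter.all false
open scoped Cfsg.Agent.FastGrp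

-- part: H440/TwoGen/Monster
section
/-!
# Groups generated by the nodes of `Y₅₅₃` (helper440); in particular the Monster
-/

set_option autoImplicit false

namespace Cfsg.Agent.H440.TwoGen.Monster

open Cfsg.Agent.Bimonster Equiv Equiv.Perm

variable {G : Type*} [Group G]

/-- the long path -/
def pl (i : ℕ) : ℕ := [5, 4, 3, 2, 1, 0, 6, 7, 8, 9, 10].getD i 0

theorem twoGen_of_nodes {t : ℕ → G} (ht : CoxRel 14 t) (hgen : Subgroup.closure (nodes 14 t) = ⊤) : TwoGen G := by
  have hl : ∀ i < 11, pl i < 14 := by decide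
  have hsq : ∀ i < 14, t i * t i = 1 := ht.sq
  obtain ⟨e1, e2, e3⟩ := Star.arm3 (hsq 11 (by norm_num)) (hsq 12 (by norm_num)) (hsq 13 (by norm_num))
    (ht.br 11 (by norm_num) 12 (by norm_num) (by decide)) (ht.br 12 (by norm_num) 13 (by norm_num) (by decide))
    (ht.cm 11 (by norm_num) 13 (by norm_num) (by decide))
  have hc0 : ∀ i < 14, adjB 11 i = false → adjB 12 i = false → adjB 13 i = false →
      (t 11 * t 12 * t 13) * t i = t i * (t 11 * t 12 * t 13) := by
    intro i hi h1 h2 h3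
    have k1 := ht.cm 11 (by norm_num) i hi h1
    have k2 := ht.cm 12 (by norm_num) i hi h2
    have k3 := ht.cm 13 (by norm_num) i hi h3
    rw [mul_assoc, k3, ← mul_assoc, mul_assoc (t 11), k2, ← mul_assoc, k1]
    simp only [mul_assoc]
  have hadj1 : ∀ i < 10, adjB (pl i) (pl (i + 1)) = true := by decide
  have hadj2 : ∀ i < 11, ∀ j < 11, i + 1 < j → adjB (pl i) (pl j) = false := by decide
  have hadj3 : ∀ i < 11, adjB (pl i) 12 = false := by decide
  have hbraid : t 11 * t (pl 5) * t 11 = t (pl 5) * t 11 * t (pl 5) :=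
    ht.br 11 (by norm_num) (pl 5) (hl 5 (by norm_num)) (by decide)
  have hs11 := hsq 11 (by norm_num)
  have hs5 := hsq (pl 5) (hl 5 (by norm_num))
  obtain ⟨X, Y, h1, h2, h3⟩ := Star.star (n := 11) (by norm_num) (fun i => t (pl i)) (fun i hi => hsq _ (hl i hi))
    (fun i hi => ht.br _ (hl i (by omega)) _ (hl (i + 1) hi) (hadj1 i (by omega)))
    (fun i j hij hj => ht.cm _ (hl i (by omega)) _ (hl j hj) (hadj2 i (by omega) j hj hij))
    (k := 5) (by norm_num) (by norm_num)
    (swap (⟨0, by norm_num⟩ : Fin (11 + 1)) ⟨1, by norm_num⟩ * finRotate (11 + 1)) (m := 11) (by decide) (by decide +kernel)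
    (fun S h1 h2 => Star.cz_even (by norm_num) S h1 h2)
    (t 11) (t 11 * t 12 * t 13) (t 12) (by rw [pow_two]; exact hsq 12 (by norm_num)) e1
    (fun i hi => ht.cm _ (hl i hi) 12 (by norm_num) (hadj3 i hi))
    (hc0 _ (hl 0 (by norm_num)) (by decide) (by decide) (by decide))
    (hc0 _ (hl 1 (by norm_num)) (by decide) (by decide) (by decide))
    (by
      have hm := Subgroup.mul_mem _ (Subgroup.mul_mem _ (Subgroup.inv_mem _ (Subgroup.subset_closure
        (Set.mem_insert (t 11 * t 12 * t 13) {t 12})))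
        (Subgroup.subset_closure (Set.mem_insert_of_mem _ (Set.mem_singleton (t 12)))))
        (Subgroup.subset_closure (Set.mem_insert (t 11 * t 12 * t 13) _))
      rwa [e2] at hm)
    (by
      calc (t 11 * t (pl 5)) ^ 3 = (t 11 * t (pl 5) * t 11) * (t (pl 5) * t 11 * t (pl 5)) := by
            simp only [pow_succ, pow_zero, one_mul, mul_assoc]
        _ = (t 11 * t (pl 5) * t 11) * (t 11 * t (pl 5) * t 11) := by rw [hbraid]
        _ = t 11 * t (pl 5) * (t 11 * t 11) * t (pl 5) * t 11 := by simp only [mul_assoc]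
        _ = t 11 * (t (pl 5) * t (pl 5)) * t 11 := by rw [hs11, mul_one]; simp only [mul_assoc]
        _ = 1 := by rw [hs5, mul_one, hs11])
    (ht.cm 11 (by norm_num) _ (hl 0 (by norm_num)) (by decide))
  refine ⟨X, Y, ?_⟩
  rw [eq_top_iff, ← hgen, Subgroup.closure_le]
  rintro _ ⟨i, hi, rfl⟩
  have hcase : ∀ i < 14, i = 11 ∨ i = 12 ∨ i = 13 ∨ ∃ j < 11, i = pl j := by decide
  rcases hcase i hi with rfl | rfl | rfl | ⟨j, hj, rfl⟩
  · rw [← e2]
    exact Subgroup.mul_mem _ (Subgroup.mul_mem _ (Subgroup.inv_mem _ h2) h3) h2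
  · exact h3
  · rw [← e3]
    exact Subgroup.mul_mem _ (Subgroup.mul_mem _ h2 h3) (Subgroup.inv_mem _ h2)
  · exact h1 j hj

end Cfsg.Agent.H440.TwoGen.Monster
end

-- part: H440/TwoGen/MonsterM
section
/-!
# The Monster is 2-generated (helper440)
-/

set_option autoImplicit false

namespace Cfsg.Agent.H440.TwoGen.MonsterM

open Cfsg.Agent.Bimonster

/-- the presented group `PM` -/
theorem pm : TwoGen PM := Monster.twoGen_of_nodes xM_prel.cox xM_gen

/-- **the Monster** -/
theorem twoGen_m {G : Type*} [Group G] (h : Cfsg.Spor.IsoM G) : TwoGen G := by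
  obtain ⟨e⟩ := h
  obtain ⟨e'⟩ := Cfsg.Agent.MonsterP.Equiv.equivM
  exact (pm.of_equiv e'.symm).of_equiv e.symm

end Cfsg.Agent.H440.TwoGen.MonsterM
end
end

-- part: H440/TwoGen/Spor
section
prune_inst 0x4204000530000000818001000000014000000000000000028800102080802008001000138500000104208c0404ec00000000000003000002000880000000120042120e000341c00100000409805180c00000000000000000000000000000000000000000
set_option linter.all false
open scoped Cfsg.Agent.FastGrp

-- part: H136/Gen2/Co2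
section
/-!
# 2-generation of `Co₂` (helper136)

In the presentation of `Co₂` on `a, …, i`, the letters `a, …, f` form a diagram `E₆` and commute with `h`; `g` commutes
with `a`, `c`.  With `u = d b e f` (order 5) and `t = a c` (order 3), `⟨u, t⟩` is the even subgroup of `W(E₆)`, and
`Co₂ = ⟨h u, g t⟩`.
-/

set_option autoImplicit false

namespace Cfsg.Agent.H136.Gen2.Co2

open Subgroup Cfsg.Agent.Co2Type.PresDef Cfsg.Agent.Bimonster.Tits

/-- the letters `a = 0, c = 1, d = 2, b = 3, e = 4, f = 5` -/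
def adj (i j : ℕ) : Bool :=
  [(0, 1), (1, 2), (2, 3), (2, 4), (4, 5)].contains (i, j) || [(0, 1), (1, 2), (2, 3), (2, 4), (4, 5)].contains (j, i)

/-- the moves for the diagram `E₆` -/
def rules : Rules where
  sq i := Nat.blt i 6
  cm i j := Nat.blt i 6 && Nat.blt j 6 && !adj i j && !Nat.beq i j
  br i j := Nat.blt i 6 && Nat.blt j 6 && adj i j

variable {G : Type*} [Group G] {a b c d e f g h i : G}

theorem braid_of {x y : G} (hx : x * x = 1) (hy : y * y = 1) (h : (x * y) ^ 3 = 1) : x * y * x = y * x * y := by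
  have e1 : x⁻¹ = x := inv_eq_of_mul_eq_one_left hx
  have e2 : y⁻¹ = y := inv_eq_of_mul_eq_one_left hy
  have h3 : (x * y * x) * (y * x * y) = 1 := by
    rw [← h]; simp only [pow_succ, pow_zero, one_mul, mul_assoc]
  have := eq_inv_of_mul_eq_one_left h3
  rw [mul_inv_rev, mul_inv_rev, e1, e2] at this
  rw [this, mul_assoc]

theorem valid (P : PG a b c d e f g h i) : Valid rules (lett a b c d e f g h i) 1 where
  sq k hk := by
    have hk' : k < 6 := by simpa [rules] using hk
    interval_cases k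
    · exact P.aa
    · exact P.cc
    · exact P.dd
    · exact P.bb
    · exact P.ee
    · exact P.ff
  cm k l hkl := by
    have h1 : k < 6 ∧ l < 6 := by
      simp only [rules, Bool.and_eq_true, Nat.blt_eq] at hkl
      exact ⟨hkl.1.1.1, hkl.1.1.2⟩
    obtain ⟨hk, hl⟩ := h1
    have key : ∀ x y : G, x * y = y * x → y * x = x * y := fun x y h => h.symm
    interval_cases k <;> interval_cases l <;> first
      | (exfalso; revert hkl; decide)
      | exact P.ab | exact P.ad | exact P.ae | exact P.af | exact P.bc | exact P.be | exact P.bf | exact P.ce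
      | exact P.cf | exact P.df | exact P.ab.symm | exact P.ad.symm | exact P.ae.symm | exact P.af.symm
      | exact P.bc.symm | exact P.be.symm | exact P.bf.symm | exact P.ce.symm | exact P.cf.symm | exact P.df.symm
  br k l hkl := by
    have h1 : k < 6 ∧ l < 6 := by
      simp only [rules, Bool.and_eq_true, Nat.blt_eq] at hkl
      exact ⟨hkl.1.1, hkl.1.2⟩
    obtain ⟨hk, hl⟩ := h1
    have ac := braid_of P.aa P.cc P.ac
    have cd := braid_of P.cc P.dd P.cd
    have db := braid_of P.dd P.bb P.db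
    have de := braid_of P.dd P.ee P.de
    have ef := braid_of P.ee P.ff P.ef
    interval_cases k <;> interval_cases l <;> first
      | (exfalso; revert hkl; decide)
      | exact ac | exact cd | exact db | exact de | exact ef
      | exact ac.symm | exact cd.symm | exact db.symm | exact de.symm | exact ef.symm
  central z := by rw [one_mul, mul_one]

theorem cert_cd (P : PG a b c d e f g h i) :
    ev (lett a b c d e f g h i) [2, 3, 4, 5, 1, 0, 5, 4, 3, 2, 0, 1] = ev (lett a b c d e f g h i) [1, 2] := by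
  have hn : run rules [10, 13, 15, 7, 10, 12, 4, 7, 9, 7, 9, 2, 6, 3, 0] 0 ([2, 3, 4, 5, 1, 0, 5, 4, 3, 2, 0, 1] ++ [2, 1]) = some (7, []) := by
    decide +kernel
  exact eq_of_run_reverse (valid P) (fun k hk => (valid P).sq k (by revert k; decide)) hn

theorem cert_ef (P : PG a b c d e f g h i) :
    ev (lett a b c d e f g h i) [5, 4, 3, 2, 0, 1, 2, 3, 4, 5, 1, 0, 5, 4, 3, 2, 5, 4, 3, 2, 0, 1, 2, 3, 4, 5, 1, 0, 5, 4, 3, 2] = ev (lett a b c d e f g h i) [4, 5] := by
  have hn : run rules [10, 14, 19, 22, 25, 27, 25, 27, 22, 24, 19, 21, 16, 18, 4, 7, 10, 13, 1, 4, 7, 10, 14, 18, 1, 4, 7, 10, 13, 15, 7, 10, 13, 15, 4, 7, 11, 15, 13, 16, 19, 21, 1, 4, 7, 10, 13, 16, 18, 15, 12, 9, 6, 3, 0] 0 ([5, 4, 3, 2, 0, 1, 2, 3, 4, 5, 1, 0, 5, 4, 3, 2, 5, 4, 3, 2, 0, 1, 2, 3, 4, 5, 1, 0, 5, 4, 3, 2] ++ [5, 4]) = some (17, []) := by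
    decide +kernel
  exact eq_of_run_reverse (valid P) (fun k hk => (valid P).sq k (by revert k; decide)) hn

theorem cert_db (P : PG a b c d e f g h i) :
    ev (lett a b c d e f g h i) [2, 3, 4, 5, 2, 3, 4, 5, 0, 1, 2, 3, 4, 5, 1, 0, 5, 4, 3, 2, 5, 4, 3, 2, 0, 1, 2, 3, 4, 5, 1, 0, 2, 3, 4, 5] = ev (lett a b c d e f g h i) [2, 3] := by
  have hn : run rules [40, 43, 45, 37, 40, 42, 34, 37, 39, 29, 34, 36, 22, 25, 28, 31, 33, 19, 4, 7, 11, 16, 20, 25, 28, 30, 28, 31, 33, 25, 13, 16, 20, 26, 30, 27, 22, 24, 10, 14, 19, 21, 7, 4, 8, 13, 16, 18, 15, 4, 7, 10, 12, 9, 7, 9, 4, 6, 3, 0] 0 ([2, 3, 4, 5, 2, 3, 4, 5, 0, 1, 2, 3, 4, 5, 1, 0, 5, 4, 3, 2, 5, 4, 3, 2, 0, 1, 2, 3, 4, 5, 1, 0, 2, 3, 4, 5] ++ [3, 2]) = some (19, []) := by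
    decide +kernel
  exact eq_of_run_reverse (valid P) (fun k hk => (valid P).sq k (by revert k; decide)) hn

theorem cert_de (P : PG a b c d e f g h i) :
    ev (lett a b c d e f g h i) [5, 4, 3, 2, 0, 1, 5, 4, 3, 2, 1, 0, 2, 3, 4, 5, 0, 1, 2, 3, 4, 5, 0, 1, 2, 3, 4, 5, 1, 0, 5, 4, 3, 2, 0, 1] = ev (lett a b c d e f g h i) [2, 4] := by
  have hn : run rules [16, 19, 22, 26, 31, 33, 10, 13, 4, 7, 1, 4, 8, 14, 20, 25, 28, 30, 16, 1, 4, 7, 11, 17, 22, 25, 27, 25, 27, 22, 24, 19, 21, 13, 16, 18, 7, 11, 15, 12, 1, 4, 7, 9, 2, 8, 13, 16, 19, 21, 19, 21, 16, 18, 13, 15, 10, 12, 9, 6, 3, 0] 0 ([5, 4, 3, 2, 0, 1, 5, 4, 3, 2, 1, 0, 2, 3, 4, 5, 0, 1, 2, 3, 4, 5, 0, 1, 2, 3, 4, 5, 1, 0, 5, 4, 3, 2, 0, 1] ++ [4, 2]) = some (19, []) := by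
    decide +kernel
  exact eq_of_run_reverse (valid P) (fun k hk => (valid P).sq k (by revert k; decide)) hn

theorem cert_u (P : PG a b c d e f g h i) : ev (lett a b c d e f g h i) [2, 3, 4, 5, 2, 3, 4, 5, 2, 3, 4, 5, 2, 3, 4, 5, 2, 3, 4, 5] = 1 := by
  have hn : run rules [10, 13, 17, 4, 8, 2, 7, 11, 16, 20, 25, 27, 14, 19, 22, 24, 5, 10, 13, 17, 21, 18, 7, 11, 15, 1, 5, 10, 12, 9, 1, 4, 6, 3, 0] 0 [2, 3, 4, 5, 2, 3, 4, 5, 2, 3, 4, 5, 2, 3, 4, 5, 2, 3, 4, 5] = some (10, []) := by
    decide +kernel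
  have := eq_of_run (valid P) hn
  rwa [one_pow] at this

theorem two_gen_of (P : PG a b c d e f g h i) (hgen : closure {a, b, c, d, e, f, g, h, i} = (⊤ : Subgroup G)) :
    ∃ x y : G, closure ({x, y} : Set G) = ⊤ := by
  have hcd := cert_cd P
  have hef := cert_ef P
  have hdb := cert_db P
  have hde := cert_de P
  have hu5 := cert_u P
  obtain ⟨u, hu⟩ : ∃ u, u = d * b * e * f := ⟨_, rfl⟩
  obtain ⟨t, ht⟩ : ∃ t, t = a * c := ⟨_, rfl⟩
  have inv : ∀ {x : G}, x * x = 1 → x⁻¹ = x := fun h => inv_eq_of_mul_eq_one_left h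
  have hui : u⁻¹ = f * e * b * d := by
    rw [hu]; simp only [mul_inv_rev, inv P.dd, inv P.bb, inv P.ee, inv P.ff, mul_assoc]
  have hti : t⁻¹ = c * a := by rw [ht, mul_inv_rev, inv P.aa, inv P.cc]
  have hcd' : u * t⁻¹ * u⁻¹ * t = c * d := by
    simpa [lett, hu, ht, mul_assoc, inv P.aa, inv P.bb, inv P.cc, inv P.dd, inv P.ee, inv P.ff] using hcd
  have hef' : u⁻¹ * t * u * t⁻¹ * u⁻¹ * u⁻¹ * t * u * t⁻¹ * u⁻¹ = e * f := by
    simpa [lett, hu, ht, mul_assoc, inv P.aa, inv P.bb, inv P.cc, inv P.dd, inv P.ee, inv P.ff] using hef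
  have hdb' : u * u * t * u * t⁻¹ * u⁻¹ * u⁻¹ * t * u * t⁻¹ * u = d * b := by
    simpa [lett, hu, ht, mul_assoc, inv P.aa, inv P.bb, inv P.cc, inv P.dd, inv P.ee, inv P.ff] using hdb
  have hde' : u⁻¹ * t * u⁻¹ * t⁻¹ * u * t * u * t * u * t⁻¹ * u⁻¹ * t = d * e := by
    simpa [lett, hu, ht, mul_assoc, inv P.aa, inv P.bb, inv P.cc, inv P.dd, inv P.ee, inv P.ff] using hde
  have hu5' : u ^ 5 = 1 := by
    simpa [lett, hu, pow_succ, mul_assoc] using hu5
  refine ⟨h * u, g * t, ?_⟩
  set H := closure ({h * u, g * t} : Set G) with hH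
  have hx : h * u ∈ H := subset_closure (Set.mem_insert _ _)
  have hy : g * t ∈ H := subset_closure (Set.mem_insert_of_mem _ rfl)
  have cm : ∀ {z x y : G}, z * x = x * z → z * y = y * z → z * (x * y) = (x * y) * z := by
    intro z x y h1 h2
    rw [← mul_assoc, h1, mul_assoc, h2, ← mul_assoc]
  have hhu : h * u = u * h := by
    rw [hu]; exact cm (cm (cm P.dh.symm P.bh.symm) P.eh.symm) P.fh.symm
  have hgt : g * t = t * g := by
    rw [ht]; exact cm P.ag.symm P.cg.symm
  have ht3 : t ^ 3 = 1 := by rw [ht]; exact P.ac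
  obtain ⟨hhH, huH⟩ := split_mem (m := 2) (n := 5) hhu (by rw [pow_two, P.hh]) hu5' (by decide) hx
  obtain ⟨hgH, htH⟩ := split_mem (m := 2) (n := 3) hgt (by rw [pow_two, P.gg]) ht3 (by decide) hy
  have huI := inv_mem huH
  have htI := inv_mem htH
  have hcdH : c * d ∈ H := by
    rw [← hcd']; exact mul_mem (mul_mem (mul_mem huH htI) huI) htH
  have hefH : e * f ∈ H := by
    rw [← hef']
    exact mul_mem (mul_mem (mul_mem (mul_mem (mul_mem (mul_mem (mul_mem (mul_mem (mul_mem huI htH) huH) htI) huI) huI)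
      htH) huH) htI) huI
  have hdbH : d * b ∈ H := by
    rw [← hdb']
    exact mul_mem (mul_mem (mul_mem (mul_mem (mul_mem (mul_mem (mul_mem (mul_mem (mul_mem (mul_mem huH huH) htH) huH)
      htI) huI) huI) htH) huH) htI) huH
  have hdeH : d * e ∈ H := by
    rw [← hde']
    exact mul_mem (mul_mem (mul_mem (mul_mem (mul_mem (mul_mem (mul_mem (mul_mem (mul_mem (mul_mem (mul_mem huI htH)
      huI) htI) huH) htH) huH) htH) huH) htI) huI) htH
  have hacH : a * c ∈ H := by rw [← ht]; exact htH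
  -- the odd element `f`
  have hfe : f * e ∈ H := by
    have := inv_mem hefH
    rwa [mul_inv_rev, inv P.ee, inv P.ff] at this
  have hfg : f * g ∈ H := by
    have h1 : g * (f * e) * g * (e * f) = f * g := by
      have h2 : g * f * g * f = f * g := by
        have h3 : (f * g) * (f * g) * (f * g) = 1 := by rw [← P.fg]; simp only [pow_succ, pow_zero, one_mul]
        have h4 : f * g * (g * f) = 1 := by rw [mul_assoc, ← mul_assoc g, P.gg, one_mul, P.ff]
        have h5 : g * f = (f * g)⁻¹ := eq_inv_of_mul_eq_one_right h4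
        rw [mul_assoc (g * f), h5, ← mul_inv_rev]
        exact inv_eq_of_mul_eq_one_right h3
      calc g * (f * e) * g * (e * f) = g * f * (e * g) * e * f := by simp only [mul_assoc]
        _ = g * f * g * (e * e) * f := by rw [P.eg]; simp only [mul_assoc]
        _ = g * f * g * f := by rw [P.ee, mul_one]
        _ = f * g := h2
    rw [← h1]
    exact mul_mem (mul_mem (mul_mem hgH hfe) hgH) hefH
  have hfH : f ∈ H := by
    have := mul_mem hfg hgH
    rwa [mul_assoc, P.gg, mul_one] at this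
  have heH : e ∈ H := by
    have := mul_mem hefH hfH
    rwa [mul_assoc, P.ff, mul_one] at this
  have hdH : d ∈ H := by
    have := mul_mem hdeH heH
    rwa [mul_assoc, P.ee, mul_one] at this
  have hbH : b ∈ H := by
    have := mul_mem hdH hdbH
    rwa [← mul_assoc, P.dd, one_mul] at this
  have hcH : c ∈ H := by
    have := mul_mem hcdH hdH
    rwa [mul_assoc, P.dd, mul_one] at this
  have haH : a ∈ H := by
    have := mul_mem hacH hcH
    rwa [mul_assoc, P.cc, mul_one] at this
  have hiH : i ∈ H := by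
    rw [← P.r1]
    exact H.pow_mem (mul_mem (mul_mem (mul_mem (mul_mem (mul_mem hdH hfH) heH) hgH) hdH) hgH) 3
  rw [eq_top_iff, ← hgen, closure_le]
  intro z hz
  simp only [Set.mem_insert_iff, Set.mem_singleton_iff] at hz
  rcases hz with rfl | rfl | rfl | rfl | rfl | rfl | rfl | rfl | rfl <;> assumption

theorem twoGen {G : Type*} [Group G] (h : Spor.IsoCo2 G) : ∃ x y : G, closure ({x, y} : Set G) = ⊤ := by
  obtain ⟨e⟩ := h
  obtain ⟨_, _, _, _, _, _, _, _, _, P, -, hgen, -⟩ := Cfsg.Agent.Co2Type.Co2Gen.exists_gens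
  exact two_gen_congr e (two_gen_of P hgen)

end Cfsg.Agent.H136.Gen2.Co2
end

-- part: H994/TwoGen/J1
section
set_option autoImplicit false

namespace Cfsg.Agent.H994.TwoGen.J1

/-- The Janko group J₁ is generated by two elements. -/
theorem twoGen {G : Type*} [Group G] (h : Cfsg.Spor.IsoJ1 G) :
    ∃ x y : G, Subgroup.closure ({x, y} : Set G) = ⊤ := by
  obtain ⟨e⟩ := h
  exact of_equiv e (of_closure (a := Cfsg.Spor.jankoX) (b := Cfsg.Spor.jankoY) rfl)

end Cfsg.Agent.H994.TwoGen.J1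
end

-- part: H994/TwoGen/J2
section
/-
The Hall–Janko group J₂ is generated by two elements.
-/
set_option autoImplicit false

namespace Cfsg.Agent.H994.TwoGen.J2

open Cfsg Cfsg.Agent.H994.TwoGen Cfsg.Agent.H994.TwoGen.Words Cfsg.Agent.J2.HundredGens
  Cfsg.Agent.SporadicA.J2Hundred

/-- the first element, as a word in the letters -/
def wX : List ℕ := [4, 3, 1]
/-- the inverse of the first element -/
def wXi : List ℕ := [1, 3, 4]
/-- the second element, as a word in the letters -/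
def wY : List ℕ := [3, 2]
/-- the inverse of the second element -/
def wYi : List ℕ := [2, 3]

theorem chk_X : val gen (wX ++ wXi) = 1 := pw_eq (L := wX ++ wXi) (M := []) (by decide +kernel)
theorem chk_Y : val gen (wY ++ wYi) = 1 := pw_eq (L := wY ++ wYi) (M := []) (by decide +kernel)

/-- the group generated by the two elements -/
def H : Subgroup (Equiv.Perm (Fin 100)) := Subgroup.closure {val gen wX, val gen wY}

theorem mem {w : List ℕ} {k : ℕ} (h : chk (expand wX wY wXi wYi w ++ [k]) [] = true) : gen k ∈ H :=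
  mem_of_word gen chk_X chk_Y (pw_eq h)

theorem mem_0 : gen 0 ∈ H := mem (w := [1, 1, 1, 1]) (by decide +kernel)
theorem mem_1 : gen 1 ∈ H := mem (w := [0, 0, 0]) (by decide +kernel)
theorem mem_2 : gen 2 ∈ H := mem (w := [0, 1, 0, 1, 0, 0, 0]) (by decide +kernel)
theorem mem_3 : gen 3 ∈ H := mem (w := [1, 0, 1, 0, 1, 0, 0, 0]) (by decide +kernel)
theorem mem_4 : gen 4 ∈ H := mem (w := [0, 1, 0, 1, 0, 1]) (by decide +kernel)

theorem G_le : G ≤ H := by
  rw [G, Subgroup.closure_le]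
  rintro _ (rfl | rfl | rfl | rfl | rfl)
  · exact mem_0
  · exact mem_1
  · exact mem_2
  · exact mem_3
  · exact mem_4

theorem H_le : H ≤ G := by
  rw [H, Subgroup.closure_le]
  rintro _ (rfl | rfl)
  · exact pw_mem wX
  · exact pw_mem wY

theorem H_eq : Subgroup.closure ({val gen wX, val gen wY} : Set (Equiv.Perm (Fin 100))) = G :=
  le_antisymm H_le G_le

/-- The Hall–Janko group is generated by two elements. -/
theorem twoGen {G : Type*} [Group G] (h : Cfsg.Spor.IsoJ2 G) :
    ∃ x y : G, Subgroup.closure ({x, y} : Set G) = ⊤ := by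
  obtain ⟨e⟩ := h
  obtain ⟨f⟩ := J2_iso Cfsg.Agent.S1619.result.2.2.2
  exact of_equiv (e.trans f) (of_closure H_eq)

end Cfsg.Agent.H994.TwoGen.J2
end

-- part: H994/TwoGen/McL
section
/-
The McLaughlin group is generated by two elements.
-/
set_option autoImplicit false

namespace Cfsg.Agent.H994.TwoGen.McL

open Cfsg Cfsg.Agent.H994.TwoGen Cfsg.Agent.H994.TwoGen.Words Cfsg.Agent.McLType.Model

/-- the first element, as a word in the seven involutions -/
def wX : List (Fin 7) := [3, 5, 4]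
/-- the second element, as a word in the seven involutions -/
def wY : List (Fin 7) := [0, 6]

/-- words for the seven involutions in the two elements -/
def W : Fin 7 → List ℕ
  | 0 => [0, 1, 1, 2, 1, 1, 0, 1, 1, 2]
  | 1 => [1, 1, 0, 1, 1, 2, 1, 1]
  | 2 => [2, 3, 3, 2, 2, 1, 0, 0, 0, 0, 1, 0, 0, 1, 1, 0]
  | 3 => [2, 3, 3, 0, 3, 3, 0, 1, 1, 2, 1, 1, 2, 1, 1, 0]
  | 4 => [3, 2, 3, 3, 0, 3, 3, 2, 1, 1, 0, 3, 0, 1, 1, 2, 3]
  | 5 => [2, 2, 3, 3, 2, 3, 3, 2, 2, 1, 1, 0, 0, 1, 1, 2, 1, 1, 0, 0]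
  | 6 => [3, 0, 1, 1, 2, 1, 1, 0, 1, 1, 2]

theorem chk_X : idCheck (wX ++ wX.reverse) = true := by rewrite [Cfsg.Agent.McLBF.id_fast]; decide +kernel
theorem chk_Y : idCheck (wY ++ wY.reverse) = true := by rewrite [Cfsg.Agent.McLBF.id_fast]; decide +kernel
theorem chk_0 : idCheck (expand wX wY wX.reverse wY.reverse (W 0) ++ [0]) = true := by rewrite [Cfsg.Agent.McLBF.id_fast]; decide +kernel
theorem chk_1 : idCheck (expand wX wY wX.reverse wY.reverse (W 1) ++ [1]) = true := by rewrite [Cfsg.Agent.McLBF.id_fast]; decide +kernel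
theorem chk_2 : idCheck (expand wX wY wX.reverse wY.reverse (W 2) ++ [2]) = true := by rewrite [Cfsg.Agent.McLBF.id_fast]; decide +kernel
theorem chk_3 : idCheck (expand wX wY wX.reverse wY.reverse (W 3) ++ [3]) = true := by rewrite [Cfsg.Agent.McLBF.id_fast]; decide +kernel
theorem chk_4 : idCheck (expand wX wY wX.reverse wY.reverse (W 4) ++ [4]) = true := by rewrite [Cfsg.Agent.McLBF.id_fast]; decide +kernel
theorem chk_5 : idCheck (expand wX wY wX.reverse wY.reverse (W 5) ++ [5]) = true := by rewrite [Cfsg.Agent.McLBF.id_fast]; decide +kernel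
theorem chk_6 : idCheck (expand wX wY wX.reverse wY.reverse (W 6) ++ [6]) = true := by rewrite [Cfsg.Agent.McLBF.id_fast]; decide +kernel

theorem gen : ∃ x y : Cfsg.Agent.McLType.X275.G1, Subgroup.closure ({x, y} : Set _) = ⊤ := by
  refine gen_of_words m closure_m (word_m chk_X) (word_m chk_Y) W ?_
  intro k
  match k with
  | 0 => exact word_m chk_0
  | 1 => exact word_m chk_1
  | 2 => exact word_m chk_2
  | 3 => exact word_m chk_3
  | 4 => exact word_m chk_4
  | 5 => exact word_m chk_5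
  | 6 => exact word_m chk_6

/-- The McLaughlin group is generated by two elements. -/
theorem twoGen {G : Type*} [Group G] (h : Cfsg.Spor.IsoMcL G) :
    ∃ x y : G, Subgroup.closure ({x, y} : Set G) = ⊤ := by
  obtain ⟨e⟩ := h
  obtain ⟨e'⟩ := Cfsg.Agent.McLType.X275.isoMcL_G1
  exact of_equiv (e.trans e'.symm) gen

end Cfsg.Agent.H994.TwoGen.McL
end

-- part: H440/TwoGen/Spor
section
/-!
# The 26 sporadic groups are 2-generated (helper440; parts by helper136 and helper994)
-/

set_option autoImplicit false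

namespace Cfsg.Agent.H440.TwoGen.Spor

/-- **Every sporadic group is generated by two elements.** -/
theorem twoGen {G : Type*} [Group G] (h : Cfsg.IsSporadicGroup G) : TwoGen G := by
  rcases h with h | h | h | h | h | h | h | h | h | h | h | h | h | h | h | h | h | h | h | h | h | h | h | h | h | h
  · exact Cfsg.Agent.H994.TwoGen.M11.twoGen h
  · exact Cfsg.Agent.H994.TwoGen.M12.twoGen h
  · exact Cfsg.Agent.H994.TwoGen.M22.twoGen h
  · exact Cfsg.Agent.H994.TwoGen.M23.twoGen h
  · exact Cfsg.Agent.H994.TwoGen.M24.twoGen h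
  · exact Cfsg.Agent.H994.TwoGen.J1.twoGen h
  · exact Cfsg.Agent.H994.TwoGen.J2.twoGen h
  · exact JThree.twoGen_j3 h
  · exact JFour.twoGen_j4 h
  · exact Cfsg.Agent.H136.Gen2.Co1.twoGen h
  · exact Cfsg.Agent.H136.Gen2.Co2.twoGen h
  · exact Cfsg.Agent.H136.Gen2.Co3.twoGen h
  · exact Cfsg.Agent.H994.TwoGen.McL.twoGen h
  · exact Cfsg.Agent.H994.TwoGen.HS.twoGen h
  · exact Cfsg.Agent.H994.TwoGen.Suz.twoGen h
  · exact HNHe.twoGen_he h
  · exact Rud.twoGen_ru h
  · exact ONan.twoGen_on h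
  · exact Lyons.twoGen_ly h
  · exact CoxInst.twoGen_fi22 h
  · exact CoxInst.twoGen_fi23 h
  · exact Fi24.twoGen_fi24 h
  · exact HNHe.twoGen_hn h
  · exact Cfsg.Agent.H136.Gen2.Th.twoGen h
  · exact CoxInst.twoGen_b h
  · exact MonsterM.twoGen_m h

end Cfsg.Agent.H440.TwoGen.Spor
end

private theorem dce_c9b3ffe1764d : _root_.True := by
  try have : _root_.True := by simp only [_root_.Cfsg.Agent.H136.Gen2.Co2.rules.eq_1]
  try have : _root_.True := by simp only [_root_.Cfsg.Agent.H994.TwoGen.J2.H.eq_1]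
  exact _root_.True.intro
end

-- part: H440/TwoGen/Tits
section
set_option linter.all false
open scoped Cfsg.Agent.FastGrp

/-!
# The Tits group is 2-generated (helper440)

The Tits group is generated by the eight central involutions `Z i` of an apartment; `p = Z₂ Z₇ Z₅` and
`q = Z₂ Z₄ Z₀` (both of order `10`) generate them. The words are checked in the 52-dimensional representation.
-/

set_option autoImplicit false
set_option maxRecDepth 100000

namespace Cfsg.Agent.H440.TwoGen.Tits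

open Cfsg.Agent.ChevalleyStructure.Tits.Pack Cfsg.Agent.ChevalleyStructure.Tits.Data
  Cfsg.Agent.ChevalleyStructure.Tits.Sat Cfsg.Agent.ChevalleyStructure.Tits.Final
  Cfsg.Agent.ChevalleyStructure.Tits.Mat Cfsg.Agent.ChevalleyStructure.Tits.Order
  Cfsg.Agent.ChevalleyStructure.Tits.Main Cfsg.Agent.Omega.TitsIso.TitsSideRel
  Cfsg.Agent.Omega.TitsIso.TitsSide

/-- `p = Z₂ Z₇ Z₅` -/
def p : List (ZMod 8) := [2, 7, 5]
/-- `p⁻¹` -/
def p' : List (ZMod 8) := [5, 7, 2]
/-- `q = Z₂ Z₄ Z₀` -/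
def q : List (ZMod 8) := [2, 4, 0]
/-- `q⁻¹` -/
def q' : List (ZMod 8) := [0, 4, 2]

/-- words of the eight involutions in `p, q` -/
def wl : List (List (List (ZMod 8))) := [
  [q, q, p, p, p, p, p],
  [q, p', p', q, p, q, q, q, p, q, p, p, p, q'],
  [q, q, q, q, q],
  [q', p', p', q, p, q, q, q, p, q, p, p, p, q],
  [q', q', p, p, p, p, p],
  [q, q, p', q', p', q'],
  [p, q, p', q, p, p, q', q', q', p', p', q', q', p', p', q', p, q', p'],
  [q', q', p', q, p', q]]
/-- word of `Z i` -/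
def w (i : ZMod 8) : List (List (ZMod 8)) := wl.getD i.val []

theorem w_mem : ∀ i : ZMod 8, ∀ l ∈ w i, l ∈ [p, p', q, q'] := by decide

theorem chk_w : ∀ i : ZMod 8, chk (zz [i], zz (w i).flatten) = true := by decide +kernel

theorem chk_p : chk (zz (p ++ p'), zz []) = true := by decide +kernel
theorem chk_q : chk (zz (q ++ q'), zz []) = true := by decide +kernel

theorem rel {l m : List (ZMod 8)} (h : chk (zz l, zz m) = true) : (l.map ZC).prod = (m.map ZC).prod := by
  have key : ∀ l : List (ZMod 8), ((((l.map ZC).prod : ↥(commutator ChevalleyStructure.Tits.Order.H0)) :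
      ChevalleyStructure.Tits.Order.H0)) = (l.map ZH).prod := by
    intro l
    induction l with
    | nil => rfl
    | cons a l ih =>
      rw [List.map_cons, List.prod_cons, List.map_cons, List.prod_cons, Subgroup.coe_mul, ih]
      rfl
  apply Subtype.ext
  rw [key, key]
  exact rel_zz h

/-- abstract form -/
theorem twoGen_abs {M : Type*} [Group M] (Z : ZMod 8 → M)
    (rel : ∀ l m : List (ZMod 8), chk (zz l, zz m) = true → (l.map Z).prod = (m.map Z).prod)
    (hZ : Subgroup.closure (Set.range Z) = ⊤) : TwoGen M := by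
  refine ⟨(p.map Z).prod, (q.map Z).prod, ?_⟩
  set N := Subgroup.closure ({(p.map Z).prod, (q.map Z).prod} : Set M) with hN
  have hp : (p.map Z).prod ∈ N := Subgroup.subset_closure (Or.inl rfl)
  have hq : (q.map Z).prod ∈ N := Subgroup.subset_closure (Or.inr rfl)
  have hinv : ∀ l m : List (ZMod 8), chk (zz (l ++ m), zz []) = true → (l.map Z).prod ∈ N →
      (m.map Z).prod ∈ N := by
    intro l m h hl
    have h1 := rel _ _ h
    rw [List.map_append, List.prod_append, List.map_nil, List.prod_nil] at h1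
    rw [← inv_eq_of_mul_eq_one_right h1]
    exact N.inv_mem hl
  have hp' := hinv p p' chk_p hp
  have hq' := hinv q q' chk_q hq
  have hall : ∀ l ∈ [p, p', q, q'], (l.map Z).prod ∈ N := by
    intro l hl
    simp only [List.mem_cons, List.not_mem_nil, or_false] at hl
    rcases hl with rfl | rfl | rfl | rfl
    · exact hp
    · exact hp'
    · exact hq
    · exact hq'
  have hflat : ∀ ls : List (List (ZMod 8)), (∀ l ∈ ls, l ∈ [p, p', q, q']) → (ls.flatten.map Z).prod ∈ N := by
    intro ls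
    induction ls with
    | nil => intro _; exact N.one_mem
    | cons l ls ih =>
      intro h
      rw [List.flatten_cons, List.map_append, List.prod_append]
      exact N.mul_mem (hall l (h l List.mem_cons_self)) (ih fun m hm => h m (List.mem_cons_of_mem _ hm))
  have hZN : ∀ i, Z i ∈ N := by
    intro i
    have h1 := rel _ _ (chk_w i)
    rw [List.map_singleton, List.prod_singleton] at h1
    rw [h1]
    exact hflat _ (w_mem i)
  rw [eq_top_iff, ← hZ, Subgroup.closure_le]
  rintro _ ⟨i, rfl⟩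
  exact hZN i

/-- the model is generated by two elements -/
theorem twoGen_model : TwoGen ↥(commutator ChevalleyStructure.Tits.Order.H0) :=
  twoGen_abs ZC (fun _ _ h => rel h) closure_ZC

theorem twoGen_of_eq (K : Subgroup (GL I52 (ZMod 2))) (hK : K = ChevalleyStructure.Tits.Order.H0) :
    TwoGen ↥(commutator K) := by
  subst hK
  exact twoGen_model

theorem twoGen_titsGroup : TwoGen Cfsg.Lie.TitsGroup :=
  twoGen_of_eq (Cfsg.Lie.twistedF4 (ZMod 2) 1) T0_eq_H0

/-- **The Tits group is generated by two elements.** -/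
theorem twoGen_tits {G : Type*} [Group G] (h : Cfsg.Lie.IsoTits G) : TwoGen G := by
  obtain ⟨e⟩ := h
  exact TwoGen.of_surjective (e.symm : Cfsg.Lie.TitsGroup →* G) e.symm.surjective twoGen_titsGroup

end Cfsg.Agent.H440.TwoGen.Tits
end
end
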